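import Cfsg.Agent.Lib.helper8.CN
import Cfsg.Agent.Lib.helper15.Omega
import Cfsg.Prelude.Def_CaseTheorems
import Cfsg.Prelude.Def_Transfer

set_option autoImplicit false

namespace Cfsg.Agent.Lib.helper8

universe u

/-- In a finite `p`-group, a conjugation-invariant subset containing `1`, closed under products
of commuting elements and not reduced to `1`, contains a nonidentity central element. -/
theorem exists_central_of_closed_subset {Q : Type*} [Group Q] [Finite Q] {p : ℕ} [Fact p.Prime]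
    (hQ : IsPGroup p Q) (S : Set Q) (h1 : (1 : Q) ∈ S)
    (hconj : ∀ g x : Q, x ∈ S → g * x * g⁻¹ ∈ S)
    (hmul : ∀ x ∈ S, ∀ y ∈ S, x * y = y * x → x * y ∈ S)
    (hne : ∃ x ∈ S, x ≠ 1) : ∃ z ∈ S, z ≠ 1 ∧ ∀ g : Q, g * z = z * g := by
  classical
  obtain ⟨x, ⟨hxS, hx1⟩, hxmax⟩ := Set.exists_max_image {x : Q | x ∈ S ∧ x ≠ 1}
    (fun x => Nat.card (Subgroup.centralizer ({x} : Set Q))) (Set.toFinite _) hne
  have hpow : ∀ u ∈ S, ∀ k : ℕ, u ^ k ∈ S := by
    intro u hu k
    induction k with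
    | zero => rw [pow_zero]; exact h1
    | succ k ih =>
      rw [pow_succ]
      exact hmul _ ih _ hu ((Commute.pow_self u k).eq)
  have hinv : ∀ u ∈ S, u⁻¹ ∈ S := by
    intro u hu
    have h2 : u⁻¹ ∈ Submonoid.powers u :=
      (mem_powers_iff_mem_zpowers).mpr (Subgroup.inv_mem _ (Subgroup.mem_zpowers u))
    obtain ⟨k, hk⟩ := (Submonoid.mem_powers_iff _ _).mp h2
    rw [← hk]
    exact hpow u hu k
  have hxN : x ∈ Subgroup.centralizer ({x} : Set Q) := by
    rw [Subgroup.mem_centralizer_iff]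
    intro y hy
    rw [Set.mem_singleton_iff] at hy
    rw [hy]
  have hcomm_of : ∀ u : Q, Subgroup.centralizer ({x} : Set Q) ≤ Subgroup.centralizer ({u} : Set Q) →
      ∀ n ∈ Subgroup.centralizer ({x} : Set Q), u * n = n * u := by
    intro u hu n hn
    exact Subgroup.mem_centralizer_iff.mp (hu hn) u (Set.mem_singleton u)
  have hmemN : ∀ u : Q, Subgroup.centralizer ({x} : Set Q) ≤ Subgroup.centralizer ({u} : Set Q) →
      u ∈ Subgroup.centralizer ({x} : Set Q) := by
    intro u hu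
    rw [Subgroup.mem_centralizer_iff]
    intro y hy
    rw [Set.mem_singleton_iff] at hy
    rw [hy]
    exact (hcomm_of u hu x hxN).symm
  have hle_of : ∀ u : Q, (∀ n ∈ Subgroup.centralizer ({x} : Set Q), u * n = n * u) →
      Subgroup.centralizer ({x} : Set Q) ≤ Subgroup.centralizer ({u} : Set Q) := by
    intro u hu n hn
    rw [Subgroup.mem_centralizer_iff]
    intro y hy
    rw [Set.mem_singleton_iff] at hy
    rw [hy]
    exact hu n hn
  let U : Subgroup Q :=
    { carrier := {u | u ∈ S ∧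
        Subgroup.centralizer ({x} : Set Q) ≤ Subgroup.centralizer ({u} : Set Q)}
      one_mem' := ⟨h1, by
        apply hle_of
        intro n _
        rw [one_mul, mul_one]⟩
      mul_mem' := by
        intro u v hu hv
        have huv : u * v = v * u := hcomm_of u hu.2 v (hmemN v hv.2)
        refine ⟨hmul u hu.1 v hv.1 huv, ?_⟩
        apply hle_of
        intro n hn
        rw [mul_assoc, hcomm_of v hv.2 n hn, ← mul_assoc, hcomm_of u hu.2 n hn, mul_assoc]
      inv_mem' := by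
        intro u hu
        refine ⟨hinv u hu.1, ?_⟩
        apply hle_of
        intro n hn
        have h3 := hcomm_of u hu.2 n hn
        calc u⁻¹ * n = u⁻¹ * (n * u) * u⁻¹ := by group
          _ = u⁻¹ * (u * n) * u⁻¹ := by rw [h3]
          _ = n * u⁻¹ := by group }
  have hUmem : ∀ u, u ∈ U ↔ u ∈ S ∧
      Subgroup.centralizer ({x} : Set Q) ≤ Subgroup.centralizer ({u} : Set Q) := fun u => Iff.rfl
  have hxU : x ∈ U := (hUmem x).mpr ⟨hxS, le_rfl⟩
  have hU1 : U ≠ ⊥ := by
    intro hb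
    rw [hb, Subgroup.mem_bot] at hxU
    exact hx1 hxU
  have hUN : U ≤ Subgroup.centralizer ({x} : Set Q) := fun u hu => hmemN u ((hUmem u).mp hu).2
  have hUS : U ≤ Subgroup.normalizer ((Subgroup.centralizer ({x} : Set Q) : Subgroup Q) : Set Q) :=
    hUN.trans Subgroup.le_normalizer
  have hnorm : Subgroup.normalizer ((Subgroup.centralizer ({x} : Set Q) : Subgroup Q) : Set Q) ≤
      Subgroup.normalizer (U : Set Q) := by
    apply le_normalizer_of_conj_mem
    intro g hg u hu
    rw [hUmem] at hu ⊢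
    refine ⟨hconj g u hu.1, ?_⟩
    apply hle_of
    intro n hn
    have h4 : g⁻¹ * n * g ∈ Subgroup.centralizer ({x} : Set Q) :=
      conj_mem_of_mem_normalizer' hg hn
    have h5 := hcomm_of u hu.2 _ h4
    calc g * u * g⁻¹ * n = g * (u * (g⁻¹ * n * g)) * g⁻¹ := by group
      _ = g * ((g⁻¹ * n * g) * u) * g⁻¹ := by rw [h5]
      _ = n * (g * u * g⁻¹) := by group
  obtain ⟨z, hzU, hz1, hzc⟩ := exists_central_of_pgroup U _ (hQ.to_subgroup _) hUS hU1 hnorm
  have hzS := ((hUmem z).mp hzU)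
  have hcard := hxmax z ⟨hzS.1, hz1⟩
  have heq : Subgroup.centralizer ({x} : Set Q) = Subgroup.centralizer ({z} : Set Q) :=
    Subgroup.eq_of_le_of_card_ge hzS.2 hcard
  have hNle : Subgroup.normalizer ((Subgroup.centralizer ({x} : Set Q) : Subgroup Q) : Set Q) ≤
      Subgroup.centralizer ({x} : Set Q) := by
    intro s hs
    rw [heq, Subgroup.mem_centralizer_iff]
    intro y hy
    rw [Set.mem_singleton_iff] at hy
    rw [hy]
    exact (hzc s hs).symm
  have htop : Subgroup.centralizer ({x} : Set Q) = ⊤ := by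
    by_contra hnt
    haveI : Group.IsNilpotent Q := hQ.isNilpotent
    have h6 := Group.normalizerCondition_of_isNilpotent (G := Q) _ (lt_top_iff_ne_top.mpr hnt)
    exact absurd (lt_of_lt_of_le h6 hNle) (lt_irrefl _)
  refine ⟨x, hxS, hx1, fun g => ?_⟩
  have hg : g ∈ Subgroup.centralizer ({x} : Set Q) := by rw [htop]; exact Subgroup.mem_top g
  exact (Subgroup.mem_centralizer_iff.mp hg x (Set.mem_singleton x)).symm

theorem comm_pow_eq_one {R : Type*} [Group R] (a b : R) (n : ℕ) (hb : b ^ n = 1)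
    (hc : Commute (a * b * a⁻¹ * b⁻¹) b) : (a * b * a⁻¹ * b⁻¹) ^ n = 1 := by
  have h1 : a * b * a⁻¹ = (a * b * a⁻¹ * b⁻¹) * b := by group
  have h2 : (a * b * a⁻¹) ^ n = 1 := by rw [conj_pow, hb]; group
  rw [h1, hc.mul_pow, hb, mul_one] at h2
  exact h2

/-- The map `g ↦ [g, e]` on a subgroup `H` all of whose commutators with `e` are central. -/
def commHomOn {R : Type*} [Group R] (H : Subgroup R) (e : R)
    (he : ∀ g ∈ H, g * e * g⁻¹ * e⁻¹ ∈ Subgroup.center R) : H →* R :=
  MonoidHom.mk' (fun g => (g : R) * e * (g : R)⁻¹ * e⁻¹) (by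
    intro g h
    have hc := Subgroup.mem_center_iff.mp (he h h.2)
    change ((g : R) * (h : R)) * e * ((g : R) * (h : R))⁻¹ * e⁻¹ =
      ((g : R) * e * (g : R)⁻¹ * e⁻¹) * ((h : R) * e * (h : R)⁻¹ * e⁻¹)
    calc ((g : R) * (h : R)) * e * ((g : R) * (h : R))⁻¹ * e⁻¹
        = ((g : R) * ((h : R) * e * (h : R)⁻¹ * e⁻¹)) * (e * (g : R)⁻¹ * e⁻¹) := by group
      _ = (((h : R) * e * (h : R)⁻¹ * e⁻¹) * (g : R)) * (e * (g : R)⁻¹ * e⁻¹) := by rw [hc (g : R)]
      _ = ((h : R) * e * (h : R)⁻¹ * e⁻¹) * ((g : R) * e * (g : R)⁻¹ * e⁻¹) := by group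
      _ = ((g : R) * e * (g : R)⁻¹ * e⁻¹) * ((h : R) * e * (h : R)⁻¹ * e⁻¹) := (hc _).symm)

theorem commHomOn_apply {R : Type*} [Group R] (H : Subgroup R) (e : R)
    (he : ∀ g ∈ H, g * e * g⁻¹ * e⁻¹ ∈ Subgroup.center R) (g : H) :
    commHomOn H e he g = (g : R) * e * (g : R)⁻¹ * e⁻¹ := rfl

/-- If all commutators `[g, e]`, `g ∈ H`, lie in a central subgroup `Z`, then
`|H| ≤ |Z| * |C_H(e)|`. -/
theorem card_le_card_mul_centralizer {R : Type*} [Group R] [Finite R] (H Z : Subgroup R) (e : R)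
    (hZ : Z ≤ Subgroup.center R) (he : ∀ g ∈ H, g * e * g⁻¹ * e⁻¹ ∈ Z) :
    Nat.card H ≤ Nat.card Z * Nat.card (H ⊓ Subgroup.centralizer ({e} : Set R) : Subgroup R) := by
  obtain ⟨ψ, hψ⟩ : ∃ ψ, ψ = commHomOn H e (fun g hg => hZ (he g hg)) := ⟨_, rfl⟩
  have h1 : Nat.card ψ.ker * Nat.card ψ.range = Nat.card H := by
    rw [← Subgroup.index_ker, Subgroup.card_mul_index]
  have h2 : Nat.card ψ.range ≤ Nat.card Z := by
    apply Subgroup.card_le_of_le
    rintro _ ⟨b, rfl⟩
    rw [hψ, commHomOn_apply]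
    exact he b b.2
  have h3 : Nat.card (ψ.ker.map H.subtype) = Nat.card ψ.ker :=
    Subgroup.card_map_of_injective H.subtype_injective
  have h4 : ψ.ker.map H.subtype ≤ H ⊓ Subgroup.centralizer ({e} : Set R) := by
    rintro _ ⟨b, hb, rfl⟩
    refine ⟨b.2, ?_⟩
    change (b : R) ∈ Subgroup.centralizer ({e} : Set R)
    rw [Subgroup.mem_centralizer_iff]
    intro y hy
    rw [Set.mem_singleton_iff] at hy
    rw [hy]
    have h5 : ψ b = 1 := MonoidHom.mem_ker.mp hb
    rw [hψ, commHomOn_apply] at h5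
    change e * (b : R) = (b : R) * e
    calc e * (b : R) = ((b : R) * e * (b : R)⁻¹ * e⁻¹)⁻¹ * ((b : R) * e) := by group
      _ = (b : R) * e := by rw [h5, inv_one, one_mul]
  have h6 := Subgroup.card_le_of_le h4
  calc Nat.card H = Nat.card ψ.range * Nat.card ψ.ker := by rw [← h1, mul_comm]
    _ ≤ Nat.card Z * Nat.card (H ⊓ Subgroup.centralizer ({e} : Set R) : Subgroup R) :=
        Nat.mul_le_mul h2 (by rw [← h3]; exact h6)

theorem eq_of_lt_of_card_sq {R : Type*} [Group R] [Finite R] {p : ℕ} (hp : p.Prime)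
    {Z H E : Subgroup R} (hZH : Z < H) (hHE : H ≤ E) (hZ : Nat.card Z = p)
    (hE : Nat.card E = p ^ 2) : H = E := by
  apply Subgroup.eq_of_le_of_card_ge hHE
  have hd : Nat.card H ∣ p ^ 2 := hE ▸ Subgroup.card_dvd_of_le hHE
  obtain ⟨k, hk2, hk⟩ := (Nat.dvd_prime_pow hp).mp hd
  have hlt : p < Nat.card H := by
    by_contra hle
    push_neg at hle
    have h1 := Subgroup.eq_of_le_of_card_ge hZH.le (hle.trans_eq hZ.symm)
    exact hZH.ne h1
  rw [hk] at hlt ⊢
  rw [hE]
  have h2 : 1 < k := by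
    by_contra h3
    push_neg at h3
    have h4 : p ^ k ≤ p ^ 1 := Nat.pow_le_pow_right hp.pos h3
    rw [pow_one] at h4
    omega
  have h5 : k = 2 := by omega
  rw [h5]

theorem card_le_of_lt_of_card_sq {R : Type*} [Group R] [Finite R] {p : ℕ} (hp : p.Prime)
    {K E : Subgroup R} (hKE : K < E) (hE : Nat.card E = p ^ 2) : Nat.card K ≤ p := by
  have hd : Nat.card K ∣ p ^ 2 := hE ▸ Subgroup.card_dvd_of_le hKE.le
  obtain ⟨k, hk2, hk⟩ := (Nat.dvd_prime_pow hp).mp hd
  have h2 : k ≠ 2 := by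
    intro h2
    rw [h2, ← hE] at hk
    exact hKE.ne (Subgroup.eq_of_le_of_card_ge hKE.le hk.ge)
  have h3 : k ≤ 1 := by omega
  rw [hk]
  calc p ^ k ≤ p ^ 1 := Nat.pow_le_pow_right hp.pos h3
    _ = p := pow_one p

theorem isElementaryAbelian_sup_zpowers {R : Type u} [Group R] (p : ℕ) (E : Subgroup R)
    (hE : Cfsg.IsElementaryAbelian p E) (x : R) (hxC : x ∈ Subgroup.centralizer (E : Set R))
    (hxp : x ^ p = 1) : Cfsg.IsElementaryAbelian p (E ⊔ Subgroup.zpowers x) := by
  have hzC : Subgroup.zpowers x ≤ Subgroup.centralizer (E : Set R) := by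
    rw [Subgroup.zpowers_le]; exact hxC
  have hnorm : Subgroup.zpowers x ≤ Subgroup.normalizer (E : Set R) := by
    apply le_normalizer_of_conj_mem
    intro a ha y hy
    have h1 : y * a = a * y := Subgroup.mem_centralizer_iff.mp (hzC ha) y hy
    have h2 : a * y * a⁻¹ = y := by rw [← h1]; group
    rw [h2]; exact hy
  have hEc : ∀ u ∈ E, ∀ v ∈ E, u * v = v * u := fun u hu v hv =>
    congrArg Subtype.val (hE.1.is_comm.comm ⟨u, hu⟩ ⟨v, hv⟩)
  have hzz : ∀ a ∈ Subgroup.zpowers x, ∀ b ∈ Subgroup.zpowers x, a * b = b * a := by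
    intro a ha b hb
    obtain ⟨k, rfl⟩ := Subgroup.mem_zpowers_iff.mp ha
    obtain ⟨l, rfl⟩ := Subgroup.mem_zpowers_iff.mp hb
    rw [← zpow_add, ← zpow_add, add_comm]
  constructor
  · refine ⟨⟨fun u v => Subtype.ext ?_⟩⟩
    obtain ⟨n, hn, a, ha, hu⟩ := (mem_sup_iff_of_le_normalizer hnorm u.1).mp u.2
    obtain ⟨n', hn', a', ha', hv⟩ := (mem_sup_iff_of_le_normalizer hnorm v.1).mp v.2
    change (u : R) * (v : R) = (v : R) * (u : R)
    rw [hu, hv]
    have hnn : Commute n n' := hEc n hn n' hn'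
    have han' : Commute a n' := (Subgroup.mem_centralizer_iff.mp (hzC ha) n' hn').symm
    have hna' : Commute n a' := Subgroup.mem_centralizer_iff.mp (hzC ha') n hn
    have haa' : Commute a a' := hzz a ha a' ha'
    exact ((hnn.mul_right hna').mul_left (han'.mul_right haa')).eq
  · intro y hy
    obtain ⟨n, hn, a, ha, rfl⟩ := (mem_sup_iff_of_le_normalizer hnorm y).mp hy
    have hna : Commute n a := Subgroup.mem_centralizer_iff.mp (hzC ha) n hn
    rw [hna.mul_pow, hE.2 n hn, one_mul]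
    obtain ⟨k, rfl⟩ := Subgroup.mem_zpowers_iff.mp ha
    rw [← zpow_natCast, ← zpow_mul, mul_comm, zpow_mul, zpow_natCast, hxp, one_zpow]

theorem sup_zpowers_normal {R : Type*} [Group R] (E : Subgroup R) [hEn : E.Normal] (x : R)
    (hx : ∀ g : R, g * x * g⁻¹ * x⁻¹ ∈ E) : (E ⊔ Subgroup.zpowers x).Normal := by
  refine ⟨fun y hy g => ?_⟩
  have hle : E ⊔ Subgroup.zpowers x ≤
      Subgroup.comap (MulAut.conj g).toMonoidHom (E ⊔ Subgroup.zpowers x) := by
    apply sup_le
    · intro y hy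
      rw [Subgroup.mem_comap]
      change g * y * g⁻¹ ∈ _
      exact Subgroup.mem_sup_left (hEn.conj_mem y hy g)
    · rw [Subgroup.zpowers_le, Subgroup.mem_comap]
      change g * x * g⁻¹ ∈ _
      have h1 : g * x * g⁻¹ = (g * x * g⁻¹ * x⁻¹) * x := by group
      rw [h1]
      exact mul_mem (Subgroup.mem_sup_left (hx g)) (Subgroup.mem_sup_right (Subgroup.mem_zpowers x))
  exact hle hy

theorem exists_max_normal_abelian {G : Type*} [Group G] [Finite G] (A₀ : Subgroup G)
    (hA₀n : A₀.Normal) (hA₀ : IsMulCommutative A₀) :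
    ∃ A : Subgroup G, A₀ ≤ A ∧ A.Normal ∧ IsMulCommutative A ∧
      ∀ B : Subgroup G, B.Normal → IsMulCommutative B → A ≤ B → B = A := by
  obtain ⟨A, hA, hmax⟩ := Set.exists_max_image
    {B : Subgroup G | A₀ ≤ B ∧ B.Normal ∧ IsMulCommutative B}
    (fun B => Nat.card B) (Set.toFinite _) ⟨A₀, le_rfl, hA₀n, hA₀⟩
  refine ⟨A, hA.1, hA.2.1, hA.2.2, fun B hBn hBc hAB => ?_⟩
  have h1 := hmax B ⟨hA.1.trans hAB, hBn, hBc⟩
  exact (Subgroup.eq_of_le_of_card_ge hAB h1).symm

/-- A maximal normal abelian subgroup of a finite `p`-group is self-centralising. -/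
theorem centralizer_eq_of_max_normal_abelian {G : Type*} [Group G] [Finite G] {p : ℕ}
    [Fact p.Prime] (hG : IsPGroup p G) (A : Subgroup G) [hAn : A.Normal]
    (hA : IsMulCommutative A)
    (hmax : ∀ B : Subgroup G, B.Normal → IsMulCommutative B → A ≤ B → B = A) :
    Subgroup.centralizer (A : Set G) = A := by
  have hAab : ∀ u ∈ A, ∀ v ∈ A, u * v = v * u := fun u hu v hv =>
    congrArg Subtype.val (hA.is_comm.comm ⟨u, hu⟩ ⟨v, hv⟩)
  have hAC : A ≤ Subgroup.centralizer (A : Set G) := by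
    intro u hu
    rw [Subgroup.mem_centralizer_iff]
    intro v hv
    exact hAab v hv u hu
  by_contra hne
  obtain ⟨c, hcC, hcA⟩ : ∃ c ∈ Subgroup.centralizer (A : Set G), c ∉ A := by
    by_contra hcon
    push_neg at hcon
    exact hne (le_antisymm hcon hAC)
  haveI hCbn : ((Subgroup.centralizer (A : Set G)).map (QuotientGroup.mk' A)).Normal :=
    Subgroup.Normal.map inferInstance _ (QuotientGroup.mk'_surjective A)
  have hCbne : (Subgroup.centralizer (A : Set G)).map (QuotientGroup.mk' A) ≠ ⊥ := by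
    intro hbot
    have : QuotientGroup.mk' A c ∈ (Subgroup.centralizer (A : Set G)).map (QuotientGroup.mk' A) :=
      ⟨c, hcC, rfl⟩
    rw [hbot, Subgroup.mem_bot] at this
    exact hcA ((QuotientGroup.eq_one_iff c).mp this)
  obtain ⟨fb, hfbC, hfb1, hfbc⟩ := exists_central_of_pgroup _ (⊤ : Subgroup (G ⧸ A))
    ((hG.to_quotient A).to_subgroup ⊤) le_top hCbne
    (le_normalizer_of_conj_mem (fun a _ x hx => hCbn.conj_mem x hx a))
  obtain ⟨f, hfC, rfl⟩ := hfbC
  have hfA : f ∉ A := fun hf => hfb1 ((QuotientGroup.eq_one_iff f).mpr hf)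
  have hfg : ∀ g : G, g * f * g⁻¹ * f⁻¹ ∈ A := by
    intro g
    rw [← QuotientGroup.eq_one_iff]
    have h1 := hfbc (QuotientGroup.mk' A g) (Subgroup.mem_top _)
    change (QuotientGroup.mk' A g) * (QuotientGroup.mk' A f) * (QuotientGroup.mk' A g)⁻¹ *
      (QuotientGroup.mk' A f)⁻¹ = 1
    rw [h1]; group
  have hBn : (A ⊔ Subgroup.zpowers f).Normal := sup_zpowers_normal A f hfg
  have hzC : Subgroup.zpowers f ≤ Subgroup.centralizer (A : Set G) := by
    rw [Subgroup.zpowers_le]; exact hfC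
  have hBc : IsMulCommutative (A ⊔ Subgroup.zpowers f : Subgroup G) := by
    rw [← Subgroup.le_centralizer_iff_isMulCommutative]
    apply sup_le
    · intro a ha
      rw [Subgroup.mem_centralizer_iff]
      intro y hy
      have hy' : y ∈ A ⊔ Subgroup.zpowers f := hy
      have hle : A ⊔ Subgroup.zpowers f ≤ Subgroup.centralizer ({a} : Set G) := by
        apply sup_le
        · intro u hu
          rw [Subgroup.mem_centralizer_iff]
          intro w hw
          rw [Set.mem_singleton_iff] at hw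
          rw [hw]; exact hAab a ha u hu
        · intro u hu
          rw [Subgroup.mem_centralizer_iff]
          intro w hw
          rw [Set.mem_singleton_iff] at hw
          rw [hw]; exact Subgroup.mem_centralizer_iff.mp (hzC hu) a ha
      exact (Subgroup.mem_centralizer_iff.mp (hle hy') a (Set.mem_singleton a)).symm
    · intro a ha
      rw [Subgroup.mem_centralizer_iff]
      intro y hy
      have hy' : y ∈ A ⊔ Subgroup.zpowers f := hy
      have hle : A ⊔ Subgroup.zpowers f ≤ Subgroup.centralizer ({a} : Set G) := by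
        apply sup_le
        · intro u hu
          rw [Subgroup.mem_centralizer_iff]
          intro w hw
          rw [Set.mem_singleton_iff] at hw
          rw [hw]; exact (Subgroup.mem_centralizer_iff.mp (hzC ha) u hu).symm
        · intro u hu
          rw [Subgroup.mem_centralizer_iff]
          intro w hw
          rw [Set.mem_singleton_iff] at hw
          rw [hw]
          obtain ⟨k, rfl⟩ := Subgroup.mem_zpowers_iff.mp ha
          obtain ⟨l, rfl⟩ := Subgroup.mem_zpowers_iff.mp hu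
          rw [← zpow_add, ← zpow_add, add_comm]
      exact (Subgroup.mem_centralizer_iff.mp (hle hy') a (Set.mem_singleton a)).symm
  have hBA := hmax _ hBn hBc le_sup_left
  apply hfA
  rw [← hBA]
  exact Subgroup.mem_sup_right (Subgroup.mem_zpowers f)

/-- Given a normal subgroup `D` of exponent `p` in a finite `p`-group (`p` odd) and an element of
order dividing `p` centralising `D` outside `D`, there is such an element central modulo `D`. -/
theorem nea_exists {R : Type*} [Group R] [Finite R] (p : ℕ) [Fact p.Prime] (hp : p ≠ 2)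
    (hR : IsPGroup p R) (D : Subgroup R) [hDn : D.Normal] (hD : ∀ d ∈ D, d ^ p = 1) (x₀ : R)
    (hx₀C : x₀ ∈ Subgroup.centralizer (D : Set R)) (hx₀p : x₀ ^ p = 1) (hx₀D : x₀ ∉ D) :
    ∃ x, x ∈ Subgroup.centralizer (D : Set R) ∧ x ^ p = 1 ∧ x ∉ D ∧
      ∀ g : R, g * x * g⁻¹ * x⁻¹ ∈ D := by
  have hp' : p.Prime := Fact.out
  have hp3 : 2 < p := lt_of_le_of_ne hp'.two_le (Ne.symm hp)
  have hCn : (Subgroup.centralizer (D : Set R)).Normal := inferInstance
  obtain ⟨q, ⟨x, hxC, hxp, rfl⟩, hq1, hqc⟩ := exists_central_of_closed_subset (hR.to_quotient D)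
    {q : R ⧸ D | ∃ x, x ∈ Subgroup.centralizer (D : Set R) ∧ x ^ p = 1 ∧
      (QuotientGroup.mk x : R ⧸ D) = q}
    ⟨1, one_mem _, one_pow p, rfl⟩
    (by
      intro g' x' hx'
      obtain ⟨g, rfl⟩ := QuotientGroup.mk_surjective g'
      obtain ⟨x, hxC, hxp, rfl⟩ := hx'
      refine ⟨g * x * g⁻¹, hCn.conj_mem x hxC g, ?_, rfl⟩
      rw [conj_pow, hxp]; group)
    (by
      rintro _ ⟨x, hxC, hxp, rfl⟩ _ ⟨y, hyC, hyp, rfl⟩ hcomm
      have hcD : y * x * (x * y)⁻¹ ∈ D := by
        rw [← QuotientGroup.eq_one_iff]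
        change (QuotientGroup.mk y : R ⧸ D) * (QuotientGroup.mk x : R ⧸ D) *
          ((QuotientGroup.mk x : R ⧸ D) * (QuotientGroup.mk y : R ⧸ D))⁻¹ = 1
        rw [hcomm, mul_inv_cancel]
      have hcx : Commute (y * x * (x * y)⁻¹) x := Subgroup.mem_centralizer_iff.mp hxC _ hcD
      have hcy : Commute (y * x * (x * y)⁻¹) y := Subgroup.mem_centralizer_iff.mp hyC _ hcD
      have he : y * x = (y * x * (x * y)⁻¹) * (x * y) := by group
      have h1 := Cfsg.Agent.Lib.helper15.mul_pow_aux x y _ he hcx hcy p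
      obtain ⟨m, hm⟩ := hp'.dvd_choose_self (by norm_num : (2 : ℕ) ≠ 0) hp3
      refine ⟨x * y, mul_mem hxC hyC, ?_, rfl⟩
      rw [h1, hxp, hyp, hm, pow_mul, hD _ hcD, one_pow, one_mul, one_mul])
    ⟨QuotientGroup.mk x₀, ⟨x₀, hx₀C, hx₀p, rfl⟩,
      fun h => hx₀D ((QuotientGroup.eq_one_iff x₀).mp h)⟩
  refine ⟨x, hxC, hxp, fun h => hq1 ((QuotientGroup.eq_one_iff x).mpr h), fun g => ?_⟩
  rw [← QuotientGroup.eq_one_iff]
  have h1 := hqc (QuotientGroup.mk g)
  change (QuotientGroup.mk g : R ⧸ D) * (QuotientGroup.mk x : R ⧸ D) *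
    (QuotientGroup.mk g : R ⧸ D)⁻¹ * (QuotientGroup.mk x : R ⧸ D)⁻¹ = 1
  rw [h1]; group

theorem exists_central_order_p {R : Type*} [Group R] [Finite R] (p : ℕ) [Fact p.Prime]
    (hR : IsPGroup p R) [Nontrivial R] :
    ∃ z : R, z ≠ 1 ∧ z ^ p = 1 ∧ ∀ g : R, g * z = z * g := by
  have hp : p.Prime := Fact.out
  obtain ⟨c, -, hc1, hcc⟩ := exists_central_of_pgroup (⊤ : Subgroup R) (⊤ : Subgroup R)
    (hR.to_subgroup ⊤) le_rfl top_ne_bot Subgroup.le_normalizer
  have hord : orderOf c ≠ 1 := by rw [Ne, orderOf_eq_one_iff]; exact hc1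
  obtain ⟨k, hk⟩ := (IsPGroup.iff_orderOf.mp hR) c
  have hpd : p ∣ orderOf c := by
    rw [hk]
    rcases Nat.eq_zero_or_pos k with h0 | h0
    · rw [h0, pow_zero] at hk; exact absurd hk hord
    · exact dvd_pow_self p (Nat.pos_iff_ne_zero.mp h0)
  have hz : orderOf (c ^ (orderOf c / p)) = p := orderOf_pow_orderOf_div (orderOf_pos c).ne' hpd
  refine ⟨c ^ (orderOf c / p), ?_, ?_, ?_⟩
  · intro h1
    rw [h1, orderOf_one] at hz
    exact hp.ne_one hz.symm
  · have := pow_orderOf_eq_one (c ^ (orderOf c / p))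
    rw [hz] at this
    exact this
  · intro g
    exact ((show Commute g c from hcc g (Subgroup.mem_top g)).pow_right _).eq

/-- In a finite `p`-group of `p`-rank at least `3`, the centraliser of a normal elementary
abelian subgroup `E` of order `p ^ 2` contains an element of order `p` outside `E`. -/
theorem ce_exists {R : Type*} [Group R] [Finite R] (p : ℕ) [Fact p.Prime] (hR : IsPGroup p R)
    (hr : ¬ Cfsg.PRankLE p 2 R) (E : Subgroup R) [hEn : E.Normal]
    (hE : Cfsg.IsElementaryAbelian p E) (hE2 : Nat.card E = p ^ 2) :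
    ∃ x, x ∈ Subgroup.centralizer (E : Set R) ∧ x ^ p = 1 ∧ x ∉ E := by
  have hp : p.Prime := Fact.out
  unfold Cfsg.PRankLE at hr
  push_neg at hr
  obtain ⟨B, hBc, hBp, hBcard⟩ := hr
  have hpp : p < p ^ 2 := by nlinarith [hp.one_lt]
  have hE1 : E ≠ ⊥ := by
    intro h
    rw [h, Subgroup.card_bot] at hE2
    have := hp.one_lt
    omega
  obtain ⟨z, hzE, hz1, hzc⟩ := exists_central_of_pgroup E (⊤ : Subgroup R) (hR.to_subgroup ⊤)
    le_top hE1 (le_normalizer_of_conj_mem (fun a _ x hx => hEn.conj_mem x hx a))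
  have hzc' : ∀ g : R, g * z = z * g := fun g => hzc g (Subgroup.mem_top g)
  have hZcard : Nat.card (Subgroup.zpowers z) = p := by
    rw [Nat.card_zpowers]; exact orderOf_eq_prime (hE.2 z hzE) hz1
  have hZE : Subgroup.zpowers z ≤ E := by rw [Subgroup.zpowers_le]; exact hzE
  have hZc : Subgroup.zpowers z ≤ Subgroup.center R := by
    rw [Subgroup.zpowers_le, Subgroup.mem_center_iff]; exact hzc'
  haveI hZn : (Subgroup.zpowers z).Normal := by
    refine ⟨fun n hn g => ?_⟩
    have h1 := Subgroup.mem_center_iff.mp (hZc hn) g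
    have h2 : g * n * g⁻¹ = n := by rw [h1]; group
    rw [h2]; exact hn
  haveI hEbn : (E.map (QuotientGroup.mk' (Subgroup.zpowers z))).Normal :=
    Subgroup.Normal.map hEn _ (QuotientGroup.mk'_surjective _)
  have hEb1 : E.map (QuotientGroup.mk' (Subgroup.zpowers z)) ≠ ⊥ := by
    intro hbot
    have hle : E ≤ Subgroup.zpowers z := by
      intro y hy
      have : QuotientGroup.mk' (Subgroup.zpowers z) y ∈
          E.map (QuotientGroup.mk' (Subgroup.zpowers z)) := ⟨y, hy, rfl⟩
      rw [hbot, Subgroup.mem_bot] at this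
      exact (QuotientGroup.eq_one_iff y).mp this
    have := Subgroup.card_le_of_le hle
    rw [hE2, hZcard] at this
    omega
  obtain ⟨eb, hebE, heb1, hebc⟩ := exists_central_of_pgroup _
    (⊤ : Subgroup (R ⧸ Subgroup.zpowers z))
    ((hR.to_quotient _).to_subgroup ⊤) le_top hEb1
    (le_normalizer_of_conj_mem (fun a _ x hx => hEbn.conj_mem x hx a))
  obtain ⟨e, heE, rfl⟩ := hebE
  have heZ : e ∉ Subgroup.zpowers z := fun h => heb1 ((QuotientGroup.eq_one_iff e).mpr h)
  have hcomm : ∀ g : R, g * e * g⁻¹ * e⁻¹ ∈ Subgroup.zpowers z := by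
    intro g
    rw [← QuotientGroup.eq_one_iff]
    have h1 := hebc (QuotientGroup.mk' _ g) (Subgroup.mem_top _)
    change (QuotientGroup.mk' (Subgroup.zpowers z) g) * (QuotientGroup.mk' _ e) *
      (QuotientGroup.mk' (Subgroup.zpowers z) g)⁻¹ *
      (QuotientGroup.mk' (Subgroup.zpowers z) e)⁻¹ = 1
    rw [h1]; group
  have hsup : Subgroup.zpowers z ⊔ Subgroup.zpowers e = E := by
    apply eq_of_lt_of_card_sq hp _ (sup_le hZE (by rw [Subgroup.zpowers_le]; exact heE))
      hZcard hE2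
    apply lt_of_le_of_ne le_sup_left
    intro h
    apply heZ
    rw [h]
    exact Subgroup.mem_sup_right (Subgroup.mem_zpowers e)
  have hcentE : ∀ g : R, g * e = e * g → g ∈ Subgroup.centralizer (E : Set R) := by
    intro g hg
    rw [Subgroup.mem_centralizer_iff]
    intro y hy
    have hy' : y ∈ Subgroup.zpowers z ⊔ Subgroup.zpowers e := by rw [hsup]; exact hy
    have hle : Subgroup.zpowers z ⊔ Subgroup.zpowers e ≤
        Subgroup.centralizer ({g} : Set R) := by
      apply sup_le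
      · rw [Subgroup.zpowers_le, Subgroup.mem_centralizer_iff]
        intro w hw
        rw [Set.mem_singleton_iff] at hw
        rw [hw]; exact hzc' g
      · rw [Subgroup.zpowers_le, Subgroup.mem_centralizer_iff]
        intro w hw
        rw [Set.mem_singleton_iff] at hw
        rw [hw]; exact hg
    exact (Subgroup.mem_centralizer_iff.mp (hle hy') g (Set.mem_singleton g)).symm
  by_contra hcon
  push_neg at hcon
  have hIDX := card_le_card_mul_centralizer B (Subgroup.zpowers z) e hZc (fun g _ => hcomm g)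
  rw [hZcard] at hIDX
  have hKE : B ⊓ Subgroup.centralizer ({e} : Set R) ≤ E := by
    intro y hy
    have h1 : e * y = y * e := Subgroup.mem_centralizer_iff.mp hy.2 e (Set.mem_singleton e)
    exact hcon y (hcentE y h1.symm) (hBp y hy.1)
  by_cases hKeq : B ⊓ Subgroup.centralizer ({e} : Set R) = E
  · have hEB : E ≤ B := by rw [← hKeq]; exact inf_le_left
    have hBE : B ≤ E := by
      intro b hb
      apply hcon b _ (hBp b hb)
      rw [Subgroup.mem_centralizer_iff]
      intro y hy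
      exact congrArg Subtype.val (hBc.is_comm.comm ⟨y, hEB hy⟩ ⟨b, hb⟩)
    have := Subgroup.card_le_of_le hBE
    omega
  · have h1 := card_le_of_lt_of_card_sq hp (lt_of_le_of_ne hKE hKeq) hE2
    have h2 : p * Nat.card (B ⊓ Subgroup.centralizer ({e} : Set R) : Subgroup R) ≤ p * p :=
      Nat.mul_le_mul_left p h1
    have h3 : p ^ 2 = p * p := sq p
    exact absurd (hBcard.trans_le (hIDX.trans (h2.trans_eq h3.symm))) (lt_irrefl _)

end Cfsg.Agent.Lib.helper8
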