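import Mathlib

set_option autoImplicit false

namespace Cfsg.Agent.Lib.helper8

universe u

theorem h8a_I1 {G : Type u} [Group G] {a b : G} (ha : a * a * a = 1) (hb : b * b = 1)
    (h : b * a * b = a⁻¹ * b * a⁻¹) : b * a * a * b = a * b * a := by
  have inv2 : a⁻¹ * a⁻¹ = a := by
    have e : a⁻¹ * a⁻¹ = a⁻¹ * a⁻¹ * (a * a * a) := by rw [ha, mul_one]
    rw [e]; group
  calc b * a * a * b = b * a * (b * b) * a * b := by rw [hb]; group
    _ = (b * a * b) * (b * a * b) := by group
    _ = (a⁻¹ * b * a⁻¹) * (a⁻¹ * b * a⁻¹) := by rw [h]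
    _ = a⁻¹ * b * (a⁻¹ * a⁻¹) * b * a⁻¹ := by group
    _ = a⁻¹ * (b * a * b) * a⁻¹ := by rw [inv2]; group
    _ = a⁻¹ * (a⁻¹ * b * a⁻¹) * a⁻¹ := by rw [h]
    _ = (a⁻¹ * a⁻¹) * b * (a⁻¹ * a⁻¹) := by group
    _ = a * b * a := by rw [inv2]

theorem h8a_step {G : Type u} [Group G] (n : ℕ) (t : ℕ → G) (H : Subgroup G)
    (R0 : t 0 * t 0 * t 0 = 1)
    (R1 : ∀ j, 1 ≤ j → t j * t j = 1)
    (R2 : ∀ i j, 1 ≤ i → i + 1 < j → t i * t j = t j * t i)
    (R2' : ∀ j, 2 ≤ j → j ≤ n → t j * t 0 * t j = (t 0)⁻¹)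
    (R3 : ∀ i, 1 ≤ i → i + 1 ≤ n → t i * t (i + 1) * t i = t (i + 1) * t i * t (i + 1))
    (R3' : 1 ≤ n → t 1 * t 0 * t 1 = (t 0)⁻¹ * t 1 * (t 0)⁻¹)
    (hH : ∀ j, j < n → t j ∈ H)
    (d : ℕ → G) (hd0 : d 0 = 1) (hds : ∀ m, d (m + 1) = d m * t (n - m)) :
    ∀ m, m ≤ n + 2 → ∀ j, j ≤ n → ∃ m', m' ≤ n + 2 ∧ ∃ h ∈ H, d m * t j = h * d m' := by
  have inv0 : (t 0)⁻¹ = t 0 * t 0 := (eq_inv_of_mul_eq_one_left R0).symm
  have B : ∀ m j, 1 ≤ j → j + m < n → d m * t j = t j * d m := by
    intro m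
    induction m with
    | zero => intro j _ _; rw [hd0, one_mul, mul_one]
    | succ m ih =>
      intro j hj1 hj
      rw [hds, mul_assoc, ← R2 j (n - m) hj1 (by omega), ← mul_assoc, ih j hj1 (by omega),
        mul_assoc]
  have C1 : ∀ j, 2 ≤ j → j ≤ n → t j * t 0 = (t 0)⁻¹ * t j := by
    intro j h2 hn
    calc t j * t 0 = t j * t 0 * (t j * t j) := by rw [R1 j (by omega), mul_one]
      _ = (t j * t 0 * t j) * t j := by simp only [mul_assoc]
      _ = (t 0)⁻¹ * t j := by rw [R2' j h2 hn]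
  have C2 : ∀ j, 2 ≤ j → j ≤ n → t j * (t 0)⁻¹ = t 0 * t j := by
    intro j h2 hn
    calc t j * (t 0)⁻¹ = t 0 * ((t 0)⁻¹ * t j) * (t 0)⁻¹ := by group
      _ = t 0 * (t j * t 0) * (t 0)⁻¹ := by rw [C1 j h2 hn]
      _ = t 0 * t j := by group
  have B0 : ∀ m, m < n → (d m * t 0 = t 0 * d m ∧ d m * (t 0)⁻¹ = (t 0)⁻¹ * d m) ∨
      (d m * t 0 = (t 0)⁻¹ * d m ∧ d m * (t 0)⁻¹ = t 0 * d m) := by
    intro m
    induction m with
    | zero =>
      intro _
      left
      rw [hd0]
      exact ⟨by rw [one_mul, mul_one], by rw [one_mul, mul_one]⟩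
    | succ m ih =>
      intro hm
      have c1 := C1 (n - m) (by omega) (by omega)
      have c2 := C2 (n - m) (by omega) (by omega)
      rcases ih (by omega) with ⟨h1, h2⟩ | ⟨h1, h2⟩
      · right
        constructor
        · rw [hds, mul_assoc, c1, ← mul_assoc, h2, mul_assoc]
        · rw [hds, mul_assoc, c2, ← mul_assoc, h1, mul_assoc]
      · left
        constructor
        · rw [hds, mul_assoc, c1, ← mul_assoc, h2, mul_assoc]
        · rw [hds, mul_assoc, c2, ← mul_assoc, h1, mul_assoc]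
  have A : ∀ m, m ≤ n → ∀ j, n + 1 < j + m → j ≤ n → d m * t j = t (j - 1) * d m := by
    intro m
    induction m with
    | zero => intro _ j h1 h2; omega
    | succ m ih =>
      intro hm j h1 h2
      rcases Nat.lt_or_ge (n + 1) (j + m) with h3 | h3
      · rw [hds, mul_assoc, R2 (n - m) j (by omega) (by omega), ← mul_assoc,
          ih (by omega) j h3 h2, mul_assoc]
      · have hjm : j + m = n + 1 := by omega
        obtain ⟨m', rfl⟩ : ∃ m', m = m' + 1 := ⟨m - 1, by omega⟩
        have e1 : n - m' = j := by omega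
        have e2 : n - (m' + 1) = j - 1 := by omega
        have e3 : j - 1 + 1 = j := by omega
        have hR3 := R3 (j - 1) (by omega) (by omega)
        rw [e3] at hR3
        have hB := B m' (j - 1) (by omega) (by omega)
        rw [hds (m' + 1), hds m', e1, e2]
        calc d m' * t j * t (j - 1) * t j = d m' * (t j * t (j - 1) * t j) := by
              simp only [mul_assoc]
          _ = d m' * (t (j - 1) * t j * t (j - 1)) := by rw [hR3]
          _ = (d m' * t (j - 1)) * t j * t (j - 1) := by simp only [mul_assoc]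
          _ = t (j - 1) * (d m' * t j * t (j - 1)) := by rw [hB]; simp only [mul_assoc]
  have hdn1 : d (n + 1) = d n * t 0 := by rw [hds n, Nat.sub_self]
  have hdn2 : d (n + 2) = d n * t 0 * t 0 := by
    have e : n - (n + 1) = 0 := by omega
    rw [hds (n + 1), hdn1, e]
  intro m hm j hj
  by_cases hmn : m ≤ n
  · rcases Nat.lt_trichotomy (j + m) n with h1 | h1 | h1
    · by_cases hj0 : j = 0
      · rw [hj0]
        rcases B0 m (by omega) with ⟨h, -⟩ | ⟨h, -⟩
        · exact ⟨m, hm, t 0, hH 0 (by omega), h⟩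
        · exact ⟨m, hm, (t 0)⁻¹, H.inv_mem (hH 0 (by omega)), h⟩
      · exact ⟨m, hm, t j, hH j (by omega), B m j (by omega) h1⟩
    · refine ⟨m + 1, by omega, 1, H.one_mem, ?_⟩
      rw [hds, one_mul]
      congr 2
      omega
    · rcases Nat.lt_or_ge (n + 1) (j + m) with h3 | h3
      · exact ⟨m, hm, t (j - 1), hH _ (by omega), A m hmn j h3 hj⟩
      · obtain ⟨m', rfl⟩ : ∃ m', m = m' + 1 := ⟨m - 1, by omega⟩
        refine ⟨m', by omega, 1, H.one_mem, ?_⟩
        have e1 : n - m' = j := by omega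
        rw [hds, e1, mul_assoc, R1 j (by omega), mul_one, one_mul]
  · by_cases hm1 : m = n + 1
    · rw [hm1]
      by_cases hj0 : j = 0
      · refine ⟨n + 2, le_refl _, 1, H.one_mem, ?_⟩
        rw [hj0, one_mul, hdn2, hdn1]
      · by_cases hj1 : j = 1
        · obtain ⟨n', hn'⟩ : ∃ n', n = n' + 1 := ⟨n - 1, by omega⟩
          have hdn : d n = d n' * t 1 := by
            have e : n - n' = 1 := by omega
            have h0 := hds n'
            rw [e, ← hn'] at h0
            exact h0
          have r3' := R3' (by omega)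
          have key : d (n + 1) * t 1 = (d n' * (t 0)⁻¹) * (t 1 * t 0 * t 0) := by
            rw [hdn1, hdn]
            calc d n' * t 1 * t 0 * t 1 = d n' * (t 1 * t 0 * t 1) := by simp only [mul_assoc]
              _ = d n' * ((t 0)⁻¹ * t 1 * (t 0)⁻¹) := by rw [r3']
              _ = (d n' * (t 0)⁻¹) * (t 1 * (t 0)⁻¹) := by simp only [mul_assoc]
              _ = (d n' * (t 0)⁻¹) * (t 1 * (t 0 * t 0)) := by rw [← inv0]
              _ = (d n' * (t 0)⁻¹) * (t 1 * t 0 * t 0) := by simp only [mul_assoc]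
          have hd2 : d (n + 2) = d n' * (t 1 * t 0 * t 0) := by
            rw [hdn2, hdn]; simp only [mul_assoc]
          rw [hj1, key]
          rcases B0 n' (by omega) with ⟨-, h⟩ | ⟨-, h⟩
          · refine ⟨n + 2, le_refl _, (t 0)⁻¹, H.inv_mem (hH 0 (by omega)), ?_⟩
            rw [hd2, h, mul_assoc]
          · refine ⟨n + 2, le_refl _, t 0, hH 0 (by omega), ?_⟩
            rw [hd2, h, mul_assoc]
        · refine ⟨n + 2, le_refl _, t (j - 1), hH _ (by omega), ?_⟩
          have c3 : t 0 * t j = t j * (t 0)⁻¹ := (C2 j (by omega) hj).symm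
          rw [hdn1, hdn2]
          calc d n * t 0 * t j = d n * (t 0 * t j) := by rw [mul_assoc]
            _ = d n * (t j * (t 0)⁻¹) := by rw [c3]
            _ = (d n * t j) * (t 0)⁻¹ := by rw [mul_assoc]
            _ = t (j - 1) * d n * (t 0)⁻¹ := by rw [A n (le_refl n) j (by omega) hj]
            _ = t (j - 1) * d n * (t 0 * t 0) := by rw [← inv0]
            _ = t (j - 1) * (d n * t 0 * t 0) := by simp only [mul_assoc]
    · have hm2 : m = n + 2 := by omega
      rw [hm2]
      by_cases hj0 : j = 0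
      · refine ⟨n, by omega, 1, H.one_mem, ?_⟩
        rw [hj0, one_mul, hdn2]
        calc d n * t 0 * t 0 * t 0 = d n * (t 0 * t 0 * t 0) := by simp only [mul_assoc]
          _ = d n := by rw [R0, mul_one]
      · by_cases hj1 : j = 1
        · obtain ⟨n', hn'⟩ : ∃ n', n = n' + 1 := ⟨n - 1, by omega⟩
          have hdn : d n = d n' * t 1 := by
            have e : n - n' = 1 := by omega
            have h0 := hds n'
            rw [e, ← hn'] at h0
            exact h0
          have r3' := R3' (by omega)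
          have i1 := h8a_I1 R0 (R1 1 (le_refl 1)) r3'
          have key : d (n + 2) * t 1 = (d n' * t 0) * (t 1 * t 0) := by
            rw [hdn2, hdn]
            calc d n' * t 1 * t 0 * t 0 * t 1 = d n' * (t 1 * t 0 * t 0 * t 1) := by
                  simp only [mul_assoc]
              _ = d n' * (t 0 * t 1 * t 0) := by rw [i1]
              _ = (d n' * t 0) * (t 1 * t 0) := by simp only [mul_assoc]
          have hd1 : d (n + 1) = d n' * (t 1 * t 0) := by
            rw [hdn1, hdn]; simp only [mul_assoc]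
          rw [hj1, key]
          rcases B0 n' (by omega) with ⟨h, -⟩ | ⟨h, -⟩
          · refine ⟨n + 1, by omega, t 0, hH 0 (by omega), ?_⟩
            rw [hd1, h, mul_assoc]
          · refine ⟨n + 1, by omega, (t 0)⁻¹, H.inv_mem (hH 0 (by omega)), ?_⟩
            rw [hd1, h, mul_assoc]
        · refine ⟨n + 1, by omega, t (j - 1), hH _ (by omega), ?_⟩
          have c4 : (t 0)⁻¹ * t j = t j * t 0 := (C1 j (by omega) hj).symm
          rw [hdn2, hdn1]
          calc d n * t 0 * t 0 * t j = d n * ((t 0 * t 0) * t j) := by simp only [mul_assoc]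
            _ = d n * ((t 0)⁻¹ * t j) := by rw [← inv0]
            _ = d n * (t j * t 0) := by rw [c4]
            _ = (d n * t j) * t 0 := by rw [mul_assoc]
            _ = t (j - 1) * d n * t 0 := by rw [A n (le_refl n) j (by omega) hj]
            _ = t (j - 1) * (d n * t 0) := by rw [mul_assoc]

theorem h8a_card_le : ∀ (N : ℕ) (G : Type u) [Group G] (s : Fin N → G),
    (∀ i : Fin N, (i : ℕ) = 0 → s i * s i * s i = 1) →
    (∀ i : Fin N, 1 ≤ (i : ℕ) → s i * s i = 1) →
    (∀ i j : Fin N, 1 ≤ (i : ℕ) → (i : ℕ) + 1 < j → s i * s j = s j * s i) →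
    (∀ i j : Fin N, (i : ℕ) = 0 → 2 ≤ (j : ℕ) → s j * s i * s j = (s i)⁻¹) →
    (∀ i j : Fin N, 1 ≤ (i : ℕ) → (i : ℕ) + 1 = j → s i * s j * s i = s j * s i * s j) →
    (∀ i j : Fin N, (i : ℕ) = 0 → (j : ℕ) = 1 → s j * s i * s j = (s i)⁻¹ * s j * (s i)⁻¹) →
    Subgroup.closure (Set.range s) = ⊤ → Finite G ∧ 2 * Nat.card G ≤ (N + 2).factorial := by
  intro N
  induction N with
  | zero =>
    intro G _ s _ _ _ _ _ _ hcl
    have hall : ∀ g : G, g = 1 := by
      intro g
      have h1 : g ∈ Subgroup.closure (Set.range s) := by rw [hcl]; exact Subgroup.mem_top g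
      have h2 : Set.range s = ∅ := Set.range_eq_empty s
      rw [h2, Subgroup.closure_empty] at h1
      exact Subgroup.mem_bot.mp h1
    have hsub : Subsingleton G := ⟨fun a b => by rw [hall a, hall b]⟩
    refine ⟨inferInstance, ?_⟩
    rw [Nat.card_unique]
    decide
  | succ n ih =>
    intro G _ s r0 r1 r2 r2' r3 r3' hcl
    let t : ℕ → G := fun j => if h : j < n + 1 then s ⟨j, h⟩ else 1
    have ht : ∀ i : Fin (n + 1), s i = t i := by
      intro i
      show s i = (if h : (i : ℕ) < n + 1 then s ⟨i, h⟩ else 1)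
      rw [dif_pos i.2]
    have htlt : ∀ j (h : j < n + 1), t j = s ⟨j, h⟩ := by
      intro j h
      show (if h : j < n + 1 then s ⟨j, h⟩ else 1) = _
      rw [dif_pos h]
    have htge : ∀ j, n + 1 ≤ j → t j = 1 := by
      intro j h
      have h' : ¬ j < n + 1 := by omega
      show (if h : j < n + 1 then s ⟨j, h⟩ else 1) = _
      rw [dif_neg h']
    have R0 : t 0 * t 0 * t 0 = 1 := by
      rw [htlt 0 (by omega)]
      exact r0 _ rfl
    have R1 : ∀ j, 1 ≤ j → t j * t j = 1 := by
      intro j hj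
      by_cases h : j < n + 1
      · rw [htlt j h]; exact r1 _ hj
      · rw [htge j (by omega), one_mul]
    have R2 : ∀ i j, 1 ≤ i → i + 1 < j → t i * t j = t j * t i := by
      intro i j hi hij
      by_cases h : j < n + 1
      · rw [htlt j h, htlt i (by omega)]
        exact r2 _ _ hi hij
      · rw [htge j (by omega), one_mul, mul_one]
    have R2' : ∀ j, 2 ≤ j → j ≤ n → t j * t 0 * t j = (t 0)⁻¹ := by
      intro j h2 hjn
      rw [htlt j (by omega), htlt 0 (by omega)]
      exact r2' _ _ rfl h2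
    have R3 : ∀ i, 1 ≤ i → i + 1 ≤ n →
        t i * t (i + 1) * t i = t (i + 1) * t i * t (i + 1) := by
      intro i hi1 hi
      rw [htlt (i + 1) (by omega), htlt i (by omega)]
      exact r3 _ _ hi1 rfl
    have R3' : 1 ≤ n → t 1 * t 0 * t 1 = (t 0)⁻¹ * t 1 * (t 0)⁻¹ := by
      intro h1
      rw [htlt 1 (by omega), htlt 0 (by omega)]
      exact r3' _ _ rfl rfl
    let H : Subgroup G := Subgroup.closure (Set.range (fun i : Fin n => s i.castSucc))
    have hH : ∀ j, j < n → t j ∈ H := by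
      intro j hj
      rw [htlt j (by omega)]
      exact Subgroup.subset_closure ⟨⟨j, hj⟩, rfl⟩
    let s' : Fin n → H := fun i => ⟨s i.castSucc, Subgroup.subset_closure ⟨i, rfl⟩⟩
    have hcl' : Subgroup.closure (Set.range s') = ⊤ := by
      have h1 := Subgroup.closure_closure_coe_preimage
        (k := Set.range (fun i : Fin n => s i.castSucc))
      have h2 : ((↑) : H → G) ⁻¹' (Set.range (fun i : Fin n => s i.castSucc)) = Set.range s' := by
        ext x
        constructor
        · rintro ⟨i, hi⟩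
          exact ⟨i, Subtype.ext hi⟩
        · rintro ⟨i, rfl⟩
          exact ⟨i, rfl⟩
      rw [← h2]
      exact h1
    obtain ⟨hfin, hcard⟩ := ih H s'
      (fun i hi => Subtype.ext (r0 _ (by simpa using hi)))
      (fun i hi => Subtype.ext (r1 _ (by simpa using hi)))
      (fun i j hi hij => Subtype.ext (r2 _ _ (by simpa using hi) (by simpa using hij)))
      (fun i j hi hj => Subtype.ext (r2' _ _ (by simpa using hi) (by simpa using hj)))
      (fun i j hi hij => Subtype.ext (r3 _ _ (by simpa using hi) (by simpa using hij)))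
      (fun i j hi hj => Subtype.ext (r3' _ _ (by simpa using hi) (by simpa using hj)))
      hcl'
    let d : ℕ → G := fun m => Nat.rec (motive := fun _ => G) 1 (fun m acc => acc * t (n - m)) m
    have hd0 : d 0 = 1 := rfl
    have hds : ∀ m, d (m + 1) = d m * t (n - m) := fun m => rfl
    have hstep := h8a_step n t H R0 R1 R2 R2' R3 R3' hH d hd0 hds
    have hX : ∀ g : G, ∃ m, m ≤ n + 2 ∧ ∃ h ∈ H, g = h * d m := by
      intro g
      have hg : g ∈ Subgroup.closure (Set.range s) := by rw [hcl]; exact Subgroup.mem_top g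
      have hmul : ∀ x : G, (∃ m, m ≤ n + 2 ∧ ∃ h ∈ H, x = h * d m) → ∀ i : Fin (n + 1),
          ∃ m, m ≤ n + 2 ∧ ∃ h ∈ H, x * s i = h * d m := by
        rintro x ⟨m, hm, h, hh, rfl⟩ i
        obtain ⟨m', hm', h', hh', he⟩ := hstep m hm i (by have := i.2; omega)
        refine ⟨m', hm', h * h', H.mul_mem hh hh', ?_⟩
        rw [ht i, mul_assoc, he, mul_assoc]
      refine Subgroup.closure_induction_right (p := fun x _ => ∃ m, m ≤ n + 2 ∧ ∃ h ∈ H, x = h * d m)
        ⟨0, by omega, 1, H.one_mem, by rw [hd0, one_mul]⟩ ?_ ?_ hg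
      · rintro x _ _ ⟨i, rfl⟩ hx
        exact hmul x hx i
      · rintro x _ _ ⟨i, rfl⟩ hx
        by_cases hi : (i : ℕ) = 0
        · have hinv : (s i)⁻¹ = s i * s i := (eq_inv_of_mul_eq_one_left (r0 i hi)).symm
          rw [hinv, ← mul_assoc]
          exact hmul _ (hmul x hx i) i
        · have hinv : (s i)⁻¹ = s i := inv_eq_of_mul_eq_one_left (r1 i (by omega))
          rw [hinv]
          exact hmul x hx i
    let φ : Fin (n + 3) × H → G := fun p => (p.2 : G) * d p.1
    have hφ : Function.Surjective φ := by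
      intro g
      obtain ⟨m, hm, h, hh, rfl⟩ := hX g
      exact ⟨(⟨m, by omega⟩, ⟨h, hh⟩), rfl⟩
    have hfinG : Finite G := Finite.of_surjective φ hφ
    refine ⟨hfinG, ?_⟩
    have h1 := Nat.card_le_card_of_surjective φ hφ
    rw [Nat.card_prod, Nat.card_fin] at h1
    calc 2 * Nat.card G ≤ 2 * ((n + 3) * Nat.card H) := Nat.mul_le_mul_left _ h1
      _ = (n + 3) * (2 * Nat.card H) := by ring
      _ ≤ (n + 3) * (n + 2).factorial := Nat.mul_le_mul_left _ hcard
      _ = (n + 1 + 2).factorial := by rw [Nat.factorial_succ (n + 2)]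

end Cfsg.Agent.Lib.helper8
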