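import Mathlib
import Cfsg.Prelude.Def_LieExceptional
import Cfsg.Agent.Lib.helper8.CoprimeAction
import Cfsg.Agent.Lib.helper7.Fitting
import Cfsg.Agent.Lib.helper15.SylGen
import Cfsg.Agent.Lib.helper1.SZ

set_option autoImplicit false

namespace Cfsg.Agent.Lib.helper8

universe u

open scoped commutatorElement

theorem nilpotent_of_injective' {K M : Type*} [Group K] [Group M] [Group.IsNilpotent M]
    (f : K →* M) (hf : Function.Injective f) : Group.IsNilpotent K :=
  Group.nilpotent_of_mulEquiv (MonoidHom.ofInjective hf).symm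

theorem isNilpotent_of_le' {G : Type*} [Group G] {K M : Subgroup G} (h : K ≤ M)
    (hM : Group.IsNilpotent M) : Group.IsNilpotent K :=
  nilpotent_of_injective' (Subgroup.inclusion h) (Subgroup.inclusion_injective h)

theorem isNilpotent_map' {G G' : Type*} [Group G] [Group G'] (f : G →* G') (K : Subgroup G)
    (hK : Group.IsNilpotent K) : Group.IsNilpotent (K.map f) :=
  Group.nilpotent_of_surjective (f.subgroupMap K) (f.subgroupMap_surjective K)

theorem commute_of_coprime_of_nilpotent_aux (n : ℕ) : ∀ (M : Type u) [Group M] [Finite M]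
    [Group.IsNilpotent M], Nat.card M ≤ n → ∀ a b : M, (orderOf a).Coprime (orderOf b) →
    a * b = b * a := by
  induction n with
  | zero =>
    intro M _ _ _ h
    exact absurd h (by have := Nat.card_pos (α := M); omega)
  | succ n ih =>
    intro M _ _ _ hcard a b hab
    by_cases htriv : Subsingleton M
    · exact Subsingleton.elim _ _
    have hnt : Nontrivial M := not_subsingleton_iff_nontrivial.mp htriv
    have hZ : Subgroup.center M ≠ ⊥ := by
      have := Cfsg.Agent.Lib.helper7.nilpotent_normal_inf_center_ne_bot (⊤ : Subgroup M) top_ne_bot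
      simpa using this
    have hlt : Nat.card (M ⧸ Subgroup.center M) ≤ n := by
      have h1 : Nat.card (M ⧸ Subgroup.center M) * Nat.card (Subgroup.center M) = Nat.card M := by
        rw [← Subgroup.index_eq_card]; exact Subgroup.index_mul_card _
      have h2 : 2 ≤ Nat.card (Subgroup.center M) := by
        have : Nontrivial (Subgroup.center M) := (Subgroup.nontrivial_iff_ne_bot _).mpr hZ
        exact Finite.one_lt_card
      nlinarith [Nat.card_pos (α := M ⧸ Subgroup.center M)]
    have hq := ih (M ⧸ Subgroup.center M) hlt (a : M ⧸ Subgroup.center M)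
      (b : M ⧸ Subgroup.center M)
      (Nat.Coprime.coprime_dvd_left (orderOf_map_dvd (QuotientGroup.mk' _) a)
        (Nat.Coprime.coprime_dvd_right (orderOf_map_dvd (QuotientGroup.mk' _) b) hab))
    obtain ⟨c, hcdef⟩ : ∃ c, c = a * b * a⁻¹ * b⁻¹ := ⟨_, rfl⟩
    have hc : c ∈ Subgroup.center M := by
      rw [hcdef, ← QuotientGroup.eq_one_iff]
      calc ((a * b * a⁻¹ * b⁻¹ : M) : M ⧸ Subgroup.center M)
          = (a : M ⧸ Subgroup.center M) * (b : M ⧸ Subgroup.center M)
            * (a : M ⧸ Subgroup.center M)⁻¹ * (b : M ⧸ Subgroup.center M)⁻¹ := rfl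
        _ = 1 := by rw [hq]; group
    have hcc : ∀ g : M, g * c = c * g := fun g => (Subgroup.mem_center_iff.mp hc g)
    have h1 : a * b * a⁻¹ = c * b := by rw [hcdef]; group
    have h2 : ∀ k : ℕ, a * b ^ k * a⁻¹ = c ^ k * b ^ k := by
      intro k
      have : a * b ^ k * a⁻¹ = (a * b * a⁻¹) ^ k := by rw [conj_pow]
      rw [this, h1, (show Commute c b from (hcc b).symm).mul_pow]
    have h3 : c ^ orderOf b = 1 := by
      have := h2 (orderOf b)
      rw [pow_orderOf_eq_one, mul_one, mul_inv_cancel, mul_one] at this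
      exact this.symm
    have h4 : b * a⁻¹ * b⁻¹ = a⁻¹ * c := by rw [hcdef]; group
    have h5 : ∀ k : ℕ, b * (a⁻¹) ^ k * b⁻¹ = (a⁻¹) ^ k * c ^ k := by
      intro k
      have : b * (a⁻¹) ^ k * b⁻¹ = (b * a⁻¹ * b⁻¹) ^ k := by rw [conj_pow]
      rw [this, h4, (show Commute a⁻¹ c from (hcc a⁻¹)).mul_pow]
    have h6 : c ^ orderOf a = 1 := by
      have := h5 (orderOf a)
      rw [inv_pow, pow_orderOf_eq_one, inv_one, mul_one, mul_inv_cancel, one_mul] at this
      exact this.symm
    have h7 : orderOf c = 1 :=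
      Nat.eq_one_of_dvd_coprimes hab (orderOf_dvd_of_pow_eq_one h6) (orderOf_dvd_of_pow_eq_one h3)
    have h8 : c = 1 := orderOf_eq_one_iff.mp h7
    have : a * b = (a * b * a⁻¹ * b⁻¹) * (b * a) := by group
    rw [this, ← hcdef, h8, one_mul]

/-- In a finite nilpotent group, elements of coprime orders commute. -/
theorem commute_of_coprime_of_nilpotent {M : Type u} [Group M] [Finite M] [Group.IsNilpotent M]
    (a b : M) (hab : (orderOf a).Coprime (orderOf b)) : a * b = b * a :=
  commute_of_coprime_of_nilpotent_aux _ M le_rfl a b hab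

theorem commute_of_mem_nilpotent {G : Type u} [Group G] [Finite G] (M : Subgroup G)
    (hM : Group.IsNilpotent M) {a b : G} (ha : a ∈ M) (hb : b ∈ M)
    (hab : (orderOf a).Coprime (orderOf b)) : a * b = b * a := by
  have := commute_of_coprime_of_nilpotent (⟨a, ha⟩ : M) ⟨b, hb⟩
    (by rw [Subgroup.orderOf_mk, Subgroup.orderOf_mk]; exact hab)
  exact congrArg Subtype.val this

theorem exists_orderOf_dvd_pow_of_mem {G : Type*} [Group G] {p : ℕ} {N : Subgroup G}
    (hNp : IsPGroup p N) {z : G} (hz : z ∈ N) : ∃ k, orderOf z ∣ p ^ k := by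
  obtain ⟨k, hk⟩ := hNp ⟨z, hz⟩
  refine ⟨k, orderOf_dvd_of_pow_eq_one ?_⟩
  exact congrArg Subtype.val hk

theorem coprime_orderOf_of_mem_pgroup {G : Type*} [Group G] {p : ℕ} {N : Subgroup G}
    (hNp : IsPGroup p N) {z g : G} (hz : z ∈ N) (hg : (orderOf g).Coprime p) :
    (orderOf g).Coprime (orderOf z) := by
  obtain ⟨k, hk⟩ := exists_orderOf_dvd_pow_of_mem hNp hz
  exact Nat.Coprime.coprime_dvd_right hk (Nat.Coprime.pow_right k hg)

/-- A nontrivial subgroup `N` of a `p`-group `S` that is normalised by `S` contains a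
nonidentity element central in `S`. -/
theorem exists_central_of_pgroup {G : Type*} [Group G] [Finite G] {p : ℕ} [Fact p.Prime]
    (N S : Subgroup G) (hS : IsPGroup p S) (hNS : N ≤ S) (hN1 : N ≠ ⊥)
    (hnorm : S ≤ Subgroup.normalizer (N : Set G)) :
    ∃ z ∈ N, z ≠ 1 ∧ ∀ s ∈ S, s * z = z * s := by
  have hnil : Group.IsNilpotent S := hS.isNilpotent
  have hN' : (N.subgroupOf S).Normal := by
    refine ⟨fun n hn g => ?_⟩
    rw [Subgroup.mem_subgroupOf] at hn ⊢
    exact conj_mem_of_mem_normalizer (hnorm g.2) hn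
  have hne : N.subgroupOf S ≠ ⊥ := by
    obtain ⟨⟨n, hn⟩, hn1⟩ := (Subgroup.ne_bot_iff_exists_ne_one).mp hN1
    intro h
    have hmem : (⟨n, hNS hn⟩ : S) ∈ N.subgroupOf S := Subgroup.mem_subgroupOf.mpr hn
    rw [h, Subgroup.mem_bot] at hmem
    have h2 : n = 1 := congrArg Subtype.val hmem
    exact hn1 (Subtype.ext h2)
  have h := Cfsg.Agent.Lib.helper7.nilpotent_normal_inf_center_ne_bot (N.subgroupOf S) hne
  obtain ⟨⟨w, hw⟩, hw1⟩ := (Subgroup.ne_bot_iff_exists_ne_one).mp h
  refine ⟨(w : G), Subgroup.mem_subgroupOf.mp hw.1, ?_, ?_⟩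
  · intro h1
    apply hw1
    apply Subtype.ext
    apply Subtype.ext
    exact h1
  · intro s hs
    have := Subgroup.mem_center_iff.mp hw.2 ⟨s, hs⟩
    exact congrArg Subtype.val this

theorem exists_normal_abelian_pgroup {Y : Type u} [Group Y] [Finite Y] (H : Subgroup Y) [H.Normal]
    (hsolv : Group.IsSolvable H) (hne : H ≠ ⊥) :
    ∃ (M : Subgroup Y) (p : ℕ), M.Normal ∧ M ≤ H ∧ M ≠ ⊥ ∧ p.Prime ∧ IsPGroup p M ∧
      ∀ a ∈ M, ∀ b ∈ M, a * b = b * a := by
  classical
  let S : Set (Subgroup Y) := {M | M.Normal ∧ M ≤ H ∧ M ≠ ⊥}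
  have hS : S.Finite := Set.toFinite S
  obtain ⟨M, -, hMmin⟩ := hS.exists_le_minimal (a := H) ⟨inferInstance, le_rfl, hne⟩
  obtain ⟨⟨hMn, hMG, hMne⟩, hmin⟩ := hMmin
  have hsolvM : Group.IsSolvable M :=
    Group.isSolvable_of_isSolvable_injective (Subgroup.inclusion_injective hMG)
  have hab : ⁅M, M⁆ = ⊥ := by
    by_contra hc
    have h1 : ⁅M, M⁆ ∈ S := ⟨inferInstance, (Subgroup.commutator_le_left M M).trans hMG, hc⟩
    have h2 : M ≤ ⁅M, M⁆ := hmin h1 (Subgroup.commutator_le_left M M)
    exact (commutator_lt_of_solvable M hMne).not_ge h2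
  have hcard : Nat.card M ≠ 1 := by rwa [Ne, Subgroup.card_eq_one]
  obtain ⟨p, hp, hpd⟩ := Nat.exists_prime_and_dvd hcard
  have hcomm : ∀ a ∈ M, ∀ b ∈ M, a * b = b * a := by
    intro a ha b hb
    have : ⁅a, b⁆ ∈ ⁅M, M⁆ := Subgroup.commutator_mem_commutator ha hb
    rw [hab, Subgroup.mem_bot, commutatorElement_eq_one_iff_mul_comm] at this
    exact this
  let T : Subgroup Y :=
    { carrier := {x | x ∈ M ∧ x ^ p = 1}
      mul_mem' := by
        intro a b ha hb
        refine ⟨M.mul_mem ha.1 hb.1, ?_⟩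
        rw [(show Commute a b from hcomm a ha.1 b hb.1).mul_pow, ha.2, hb.2, one_mul]
      one_mem' := ⟨M.one_mem, one_pow p⟩
      inv_mem' := by
        intro a ha
        exact ⟨M.inv_mem ha.1, by rw [inv_pow, ha.2, inv_one]⟩ }
  have hTn : T.Normal := ⟨fun x hx g => ⟨hMn.conj_mem x hx.1 g, by
    rw [conj_pow, hx.2, mul_one, mul_inv_cancel]⟩⟩
  have hTM : T ≤ M := fun x hx => hx.1
  have hTne : T ≠ ⊥ := by
    have : Fact p.Prime := ⟨hp⟩
    obtain ⟨x, hx⟩ := exists_prime_orderOf_dvd_card' (G := M) p hpd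
    intro h
    have hxT : (x : Y) ∈ T := ⟨x.2, by
      rw [← hx, ← Subgroup.orderOf_coe]; exact pow_orderOf_eq_one _⟩
    rw [h, Subgroup.mem_bot] at hxT
    have : x = 1 := Subtype.ext hxT
    rw [this, orderOf_one] at hx
    exact hp.one_lt.ne hx
  have hMT : M ≤ T := hmin ⟨hTn, hTM.trans hMG, hTne⟩ hTM
  refine ⟨M, p, hMn, hMG, hMne, hp, ?_, hcomm⟩
  intro x
  exact ⟨1, by rw [pow_one]; exact Subtype.ext (hMT x.2).2⟩

theorem isCNGroup_of_mulEquiv {G G' : Type*} [Group G] [Group G'] (e : G ≃* G')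
    (h : Cfsg.IsCNGroup G) : Cfsg.IsCNGroup G' := by
  intro g' hg'
  have hne : e.symm g' ≠ 1 := by
    intro h1
    apply hg'
    have := congrArg e h1
    simpa using this
  have := h (e.symm g') hne
  let f : Subgroup.centralizer ({g'} : Set G') →* Subgroup.centralizer ({e.symm g'} : Set G) :=
    { toFun := fun c => ⟨e.symm c.1, by
        rw [Subgroup.mem_centralizer_iff]
        intro y hy
        rw [Set.mem_singleton_iff] at hy
        rw [hy]
        have hc := Subgroup.mem_centralizer_iff.mp c.2 g' (Set.mem_singleton _)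
        rw [← map_mul, ← map_mul, hc]⟩
      map_one' := by apply Subtype.ext; simp
      map_mul' := by intro a b; apply Subtype.ext; simp }
  exact nilpotent_of_injective' f (by
    intro a b hab
    have := congrArg Subtype.val hab
    exact Subtype.ext (e.symm.injective this))

end Cfsg.Agent.Lib.helper8
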