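import Mathlib

set_option autoImplicit false

namespace Cfsg.Agent.Lib.helper8

open Equiv

theorem h8cp_exists_not_mem {n : ℕ} (S : Finset (Fin n)) (h : S.card < n) : ∃ e, e ∉ S := by
  by_contra hcon
  push_neg at hcon
  have h1 : S = Finset.univ := Finset.eq_univ_iff_forall.mpr hcon
  rw [h1, Finset.card_univ, Fintype.card_fin] at h
  exact lt_irrefl _ h

theorem h8cp_c3_exists {n : ℕ} {p q r : Fin n} (hpq : p ≠ q) (hpr : p ≠ r) (hqr : q ≠ r) :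
    ∃ t : Perm (Fin n), t ∈ alternatingGroup (Fin n) ∧ t p = q ∧ t q = r ∧ t r = p ∧
      (∀ v, v ≠ p → v ≠ q → v ≠ r → t v = v) ∧
      t⁻¹ q = p ∧ t⁻¹ r = q ∧ t⁻¹ p = r ∧ (∀ v, v ≠ p → v ≠ q → v ≠ r → t⁻¹ v = v) := by
  have e1 : (swap p q * swap q r) p = q := by
    rw [Perm.mul_apply, swap_apply_of_ne_of_ne hpq hpr, swap_apply_left]
  have e2 : (swap p q * swap q r) q = r := by
    rw [Perm.mul_apply, swap_apply_left, swap_apply_of_ne_of_ne hpr.symm hqr.symm]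
  have e3 : (swap p q * swap q r) r = p := by
    rw [Perm.mul_apply, swap_apply_right, swap_apply_right]
  have e4 : ∀ v, v ≠ p → v ≠ q → v ≠ r → (swap p q * swap q r) v = v := by
    intro v hp hq hr
    rw [Perm.mul_apply, swap_apply_of_ne_of_ne hq hr, swap_apply_of_ne_of_ne hp hq]
  refine ⟨swap p q * swap q r, ?_, e1, e2, e3, e4, Perm.inv_eq_iff_eq.mpr e1.symm,
    Perm.inv_eq_iff_eq.mpr e2.symm, Perm.inv_eq_iff_eq.mpr e3.symm,
    fun v a b c => Perm.inv_eq_iff_eq.mpr (e4 v a b c).symm⟩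
  rw [Perm.mem_alternatingGroup, Perm.sign_mul, Perm.sign_swap hpq, Perm.sign_swap hqr]
  rfl

theorem h8cp_d2_exists {n : ℕ} {p q r s : Fin n} (hpq : p ≠ q) (hpr : p ≠ r) (hps : p ≠ s)
    (hqr : q ≠ r) (hqs : q ≠ s) (hrs : r ≠ s) :
    ∃ t : Perm (Fin n), t ∈ alternatingGroup (Fin n) ∧ t p = q ∧ t q = p ∧ t r = s ∧ t s = r ∧
      (∀ v, v ≠ p → v ≠ q → v ≠ r → v ≠ s → t v = v) ∧
      t⁻¹ p = q ∧ t⁻¹ q = p ∧ t⁻¹ r = s ∧ t⁻¹ s = r ∧
      (∀ v, v ≠ p → v ≠ q → v ≠ r → v ≠ s → t⁻¹ v = v) := by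
  have e1 : (swap p q * swap r s) p = q := by
    rw [Perm.mul_apply, swap_apply_of_ne_of_ne hpr hps, swap_apply_left]
  have e2 : (swap p q * swap r s) q = p := by
    rw [Perm.mul_apply, swap_apply_of_ne_of_ne hqr hqs, swap_apply_right]
  have e3 : (swap p q * swap r s) r = s := by
    rw [Perm.mul_apply, swap_apply_left, swap_apply_of_ne_of_ne hps.symm hqs.symm]
  have e4 : (swap p q * swap r s) s = r := by
    rw [Perm.mul_apply, swap_apply_right, swap_apply_of_ne_of_ne hpr.symm hqr.symm]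
  have e5 : ∀ v, v ≠ p → v ≠ q → v ≠ r → v ≠ s → (swap p q * swap r s) v = v := by
    intro v hp hq hr hs
    rw [Perm.mul_apply, swap_apply_of_ne_of_ne hr hs, swap_apply_of_ne_of_ne hp hq]
  refine ⟨swap p q * swap r s, ?_, e1, e2, e3, e4, e5, Perm.inv_eq_iff_eq.mpr e2.symm,
    Perm.inv_eq_iff_eq.mpr e1.symm, Perm.inv_eq_iff_eq.mpr e4.symm, Perm.inv_eq_iff_eq.mpr e3.symm,
    fun v a b c d => Perm.inv_eq_iff_eq.mpr (e5 v a b c d).symm⟩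
  rw [Perm.mem_alternatingGroup, Perm.sign_mul, Perm.sign_swap hpq, Perm.sign_swap hrs]
  rfl

theorem h8cp_trans3 {n : ℕ} (hn : 5 ≤ n) {x1 x2 x3 y1 y2 y3 : Fin n}
    (hx12 : x1 ≠ x2) (hx13 : x1 ≠ x3) (hx23 : x2 ≠ x3)
    (hy12 : y1 ≠ y2) (hy13 : y1 ≠ y3) (hy23 : y2 ≠ y3) :
    ∃ k : Perm (Fin n), k ∈ alternatingGroup (Fin n) ∧ k x1 = y1 ∧ k x2 = y2 ∧ k x3 = y3 := by
  have hS : ∃ σ : Perm (Fin n), σ x1 = y1 ∧ σ x2 = y2 ∧ σ x3 = y3 := by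
    obtain ⟨σ1, hσ1⟩ : ∃ σ1 : Perm (Fin n), σ1 = swap x1 y1 := ⟨_, rfl⟩
    have h11 : σ1 x1 = y1 := by rw [hσ1]; exact swap_apply_left x1 y1
    have h12 : σ1 x2 ≠ y1 := fun h => hx12 (σ1.injective (h11.trans h.symm))
    obtain ⟨σ2, hσ2⟩ : ∃ σ2 : Perm (Fin n), σ2 = swap (σ1 x2) y2 := ⟨_, rfl⟩
    have h21 : σ2 y1 = y1 := by rw [hσ2]; exact swap_apply_of_ne_of_ne (Ne.symm h12) hy12
    have h22 : σ2 (σ1 x2) = y2 := by rw [hσ2]; exact swap_apply_left _ _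
    have h23a : σ2 (σ1 x3) ≠ y1 := by
      intro h
      have h' : σ2 (σ1 x3) = σ2 (σ1 x1) := by rw [h, h11, h21]
      exact hx13 (σ1.injective (σ2.injective h')).symm
    have h23b : σ2 (σ1 x3) ≠ y2 := by
      intro h
      have h' : σ2 (σ1 x3) = σ2 (σ1 x2) := by rw [h, h22]
      exact hx23 (σ1.injective (σ2.injective h')).symm
    refine ⟨swap (σ2 (σ1 x3)) y3 * σ2 * σ1, ?_, ?_, ?_⟩
    · show swap (σ2 (σ1 x3)) y3 (σ2 (σ1 x1)) = y1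
      rw [h11, h21]; exact swap_apply_of_ne_of_ne (Ne.symm h23a) hy13
    · show swap (σ2 (σ1 x3)) y3 (σ2 (σ1 x2)) = y2
      rw [h22]; exact swap_apply_of_ne_of_ne (Ne.symm h23b) hy23
    · show swap (σ2 (σ1 x3)) y3 (σ2 (σ1 x3)) = y3
      exact swap_apply_left _ _
  obtain ⟨σ, s1, s2, s3⟩ := hS
  obtain ⟨e1, he1⟩ := h8cp_exists_not_mem ({x1, x2, x3} : Finset (Fin n)) (by
    have := Finset.card_le_three (a := x1) (b := x2) (c := x3); omega)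
  obtain ⟨e2, he2⟩ := h8cp_exists_not_mem ({e1, x1, x2, x3} : Finset (Fin n)) (by
    have := Finset.card_le_four (a := e1) (b := x1) (c := x2) (d := x3); omega)
  simp only [Finset.mem_insert, Finset.mem_singleton, not_or] at he1 he2
  rcases Int.units_eq_one_or (Perm.sign σ) with hs | hs
  · exact ⟨σ, Perm.mem_alternatingGroup.mpr hs, s1, s2, s3⟩
  · refine ⟨σ * swap e1 e2, ?_, ?_, ?_, ?_⟩
    · rw [Perm.mem_alternatingGroup, Perm.sign_mul, hs, Perm.sign_swap (Ne.symm he2.1)]; rfl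
    · show σ (swap e1 e2 x1) = y1
      rw [swap_apply_of_ne_of_ne (Ne.symm he1.1) (Ne.symm he2.2.1), s1]
    · show σ (swap e1 e2 x2) = y2
      rw [swap_apply_of_ne_of_ne (Ne.symm he1.2.1) (Ne.symm he2.2.2.1), s2]
    · show σ (swap e1 e2 x3) = y3
      rw [swap_apply_of_ne_of_ne (Ne.symm he1.2.2) (Ne.symm he2.2.2.2), s3]

theorem h8cp_trans2 {n : ℕ} (hn : 5 ≤ n) {x1 x2 y1 y2 : Fin n} (hx : x1 ≠ x2) (hy : y1 ≠ y2) :
    ∃ k : Perm (Fin n), k ∈ alternatingGroup (Fin n) ∧ k x1 = y1 ∧ k x2 = y2 := by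
  obtain ⟨x3, hx3⟩ := h8cp_exists_not_mem ({x1, x2} : Finset (Fin n)) (by
    have := Finset.card_le_two (a := x1) (b := x2); omega)
  obtain ⟨y3, hy3⟩ := h8cp_exists_not_mem ({y1, y2} : Finset (Fin n)) (by
    have := Finset.card_le_two (a := y1) (b := y2); omega)
  simp only [Finset.mem_insert, Finset.mem_singleton, not_or] at hx3 hy3
  obtain ⟨k, hk, h1, h2, _⟩ := h8cp_trans3 hn hx (Ne.symm hx3.1) (Ne.symm hx3.2) hy
    (Ne.symm hy3.1) (Ne.symm hy3.2)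
  exact ⟨k, hk, h1, h2⟩

theorem h8cp_conj_apply {n : ℕ} (k ρ : Perm (Fin n)) (u : Fin n) :
    (k * ρ * k⁻¹) (k u) = k (ρ u) := by
  simp [Perm.mul_apply]

theorem h8cp_conj_eq {n : ℕ} (k ρ : Perm (Fin n)) (y u : Fin n) (h : (k * ρ * k⁻¹) y = k u) :
    y = k (ρ⁻¹ u) := by
  have h1 : k (ρ (k⁻¹ y)) = k u := h
  have h2 := k.injective h1
  rw [← h2]; simp

theorem h8cp_exists_moved {n : ℕ} {ρ : Perm (Fin n)} (hρ : ρ ≠ 1) : ∃ u, ρ u ≠ u := by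
  by_contra hc
  push_neg at hc
  exact hρ (Perm.ext fun x => by simpa using hc x)

def h8cp_T {n : ℕ} (π β : Perm (Fin n)) : Prop :=
  ∃ t : Perm (Fin n), t ∈ alternatingGroup (Fin n) ∧
    (∀ v, β v = π v → β v = (t * π * t⁻¹) v) ∧ ∃ v, β v = (t * π * t⁻¹) v ∧ β v ≠ π v

def h8cp_G {n : ℕ} (π ρ : Perm (Fin n)) : Prop :=
  ∃ k : Perm (Fin n), k ∈ alternatingGroup (Fin n) ∧ h8cp_T π (k * ρ * k⁻¹)

end Cfsg.Agent.Lib.helper8
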