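import Cfsg.Agent.Lib.helper8.ClassProd1

set_option autoImplicit false

namespace Cfsg.Agent.Lib.helper8

open Equiv

theorem h8cp_E2 {n : ℕ} (π β : Perm (Fin n)) (x0 x1 x2 x3 : Fin n)
    (e1 : π x0 = x1) (e2 : π x1 = x2) (e3 : π x2 = x3)
    (h1 : x1 ≠ x0) (h2 : x2 ≠ x0) (h3 : x3 ≠ x0)
    (hβ1 : β x3 = x1) (hβ2 : β x2 ≠ x3) : h8cp_T π β := by
  have h12 : x1 ≠ x2 := by
    intro h; apply h1; apply π.injective; rw [e2, e1]; exact h.symm
  have h23 : x2 ≠ x3 := by
    intro h; apply h12; apply π.injective; rw [e2, e3]; exact h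
  have h13 : x1 ≠ x3 := by
    intro h; apply h2; apply π.injective; rw [e3, e1]; exact h.symm
  obtain ⟨t, htA, tp, tq, tr, tfx, tiq, tir, tip, tio⟩ :=
    h8cp_c3_exists (p := x3) (q := x2) (r := x1) (Ne.symm h23) (Ne.symm h13) (Ne.symm h12)
  have hc : ∀ v, (t * π * t⁻¹) v = t (π (t⁻¹ v)) := fun v => rfl
  have key : ∀ v, v ≠ x0 → v ≠ x2 → v ≠ x3 → (t * π * t⁻¹) v = π v := by
    intro v hv0 hv2 hv3
    rw [hc]
    rcases eq_or_ne v x1 with hv1 | hv1
    · rw [hv1, tir, e3, tp, e2]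
    · have hπ3 : π v ≠ x3 := fun h => hv2 (π.injective (h.trans e3.symm))
      have hπ2 : π v ≠ x2 := fun h => hv1 (π.injective (h.trans e2.symm))
      have hπ1 : π v ≠ x1 := fun h => hv0 (π.injective (h.trans e1.symm))
      rw [tio v hv3 hv2 hv1, tfx (π v) hπ3 hπ2 hπ1]
  refine ⟨t, htA, ?_, x3, ?_, ?_⟩
  · intro v hv
    rcases eq_or_ne v x0 with h0 | h0
    · exfalso; rw [h0, e1] at hv; exact h3 (β.injective (hβ1.trans hv.symm))
    rcases eq_or_ne v x2 with h2' | h2'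
    · exfalso; rw [h2', e3] at hv; exact hβ2 hv
    rcases eq_or_ne v x3 with h3' | h3'
    · exfalso; rw [h3', hβ1] at hv
      exact h3 (π.injective (hv.symm.trans e1.symm))
    · rw [key v h0 h2' h3']; exact hv
  · rw [hc, tip, e2, tq]; exact hβ1
  · rw [hβ1]; intro h; exact h3 (π.injective (h.symm.trans e1.symm))

theorem h8cp_E1key {n : ℕ} (π : Perm (Fin n)) (p q r w : Fin n)
    (hp : π p = p) (hq : π q = q) (hpq : p ≠ q) (hr : π r ≠ r) (ew : π w = r) :
    ∃ t : Perm (Fin n), t ∈ alternatingGroup (Fin n) ∧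
      (∀ v, v ≠ p → v ≠ r → v ≠ w → (t * π * t⁻¹) v = π v) ∧
      (t * π * t⁻¹) r = r ∧ (t * π * t⁻¹) p = π r ∧ π r ≠ p ∧ r ≠ p := by
  have hrp : r ≠ p := by intro h; rw [h] at hr; exact hr hp
  have hrq : r ≠ q := by intro h; rw [h] at hr; exact hr hq
  have hrrp : π r ≠ p := fun h => hrp (π.injective (h.trans hp.symm))
  have hrrq : π r ≠ q := fun h => hrq (π.injective (h.trans hq.symm))
  obtain ⟨t, htA, tp, tq, tr, tfx, tiq, tir, tip, tio⟩ :=
    h8cp_c3_exists (p := p) (q := q) (r := r) hpq (Ne.symm hrp) (Ne.symm hrq)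
  have hc : ∀ v, (t * π * t⁻¹) v = t (π (t⁻¹ v)) := fun v => rfl
  refine ⟨t, htA, ?_, ?_, ?_, hrrp, hrp⟩
  · intro v hvp hvr hvw
    rw [hc]
    rcases eq_or_ne v q with hvq | hvq
    · rw [hvq, tiq, hp, tp, hq]
    · have hπp : π v ≠ p := fun h => hvp (π.injective (h.trans hp.symm))
      have hπq : π v ≠ q := fun h => hvq (π.injective (h.trans hq.symm))
      have hπr : π v ≠ r := fun h => hvw (π.injective (h.trans ew.symm))
      rw [tio v hvp hvq hvr, tfx (π v) hπp hπq hπr]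
  · rw [hc, tir, hq, tq]
  · rw [hc, tip, tfx (π r) hrrp hrrq hr]

theorem h8cp_E1i {n : ℕ} (π β : Perm (Fin n)) (p q r w : Fin n)
    (hp : π p = p) (hq : π q = q) (hpq : p ≠ q) (hr : π r ≠ r) (ew : π w = r)
    (hβr : β r = r) (hβp : β p ≠ p) : h8cp_T π β := by
  obtain ⟨t, htA, key, cr, cp, hrrp, hrp⟩ := h8cp_E1key π p q r w hp hq hpq hr ew
  refine ⟨t, htA, ?_, r, ?_, ?_⟩
  · intro v hv
    rcases eq_or_ne v p with h0 | h0
    · exfalso; rw [h0, hp] at hv; exact hβp hv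
    rcases eq_or_ne v r with h1 | h1
    · exfalso; rw [h1, hβr] at hv; exact hr hv.symm
    rcases eq_or_ne v w with h2 | h2
    · exfalso; rw [h2, ew] at hv
      have h3 := β.injective (hv.trans hβr.symm)
      rw [h3] at ew; exact hr ew
    · rw [key v h0 h1 h2]; exact hv
  · rw [cr]; exact hβr
  · rw [hβr]; exact fun h => hr h.symm

theorem h8cp_E1ii {n : ℕ} (π β : Perm (Fin n)) (p q r w : Fin n)
    (hp : π p = p) (hq : π q = q) (hpq : p ≠ q) (hr : π r ≠ r) (ew : π w = r)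
    (hβp : β p = π r) (hβw : β w ≠ r) : h8cp_T π β := by
  obtain ⟨t, htA, key, cr, cp, hrrp, hrp⟩ := h8cp_E1key π p q r w hp hq hpq hr ew
  refine ⟨t, htA, ?_, p, ?_, ?_⟩
  · intro v hv
    rcases eq_or_ne v p with h0 | h0
    · exfalso; rw [h0, hp, hβp] at hv; exact hrrp hv
    rcases eq_or_ne v r with h1 | h1
    · exfalso; rw [h1] at hv
      exact hrp (β.injective (hv.trans hβp.symm))
    rcases eq_or_ne v w with h2 | h2
    · exfalso; rw [h2, ew] at hv; exact hβw hv
    · rw [key v h0 h1 h2]; exact hv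
  · rw [cp]; exact hβp
  · rw [hβp, hp]; exact hrrp

theorem h8cp_E3 {n : ℕ} (π β : Perm (Fin n)) (p q r s : Fin n)
    (epq : π p = q) (eqp : π q = p) (ers : π r = s) (esr : π s = r)
    (hpq : p ≠ q) (hrp : r ≠ p) (hrq : r ≠ q) (hrs : r ≠ s)
    (hβp : β p = s) (hβq : β q ≠ p) (hβs : β s ≠ r) : h8cp_T π β := by
  have hsp : s ≠ p := by
    intro h; apply hrq; apply π.injective; rw [ers, eqp]; exact h
  have hsq : s ≠ q := by
    intro h; apply hrp; apply π.injective; rw [ers, epq]; exact h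
  obtain ⟨t, htA, tp, tq, tr, tfx, tiq, tir, tip, tio⟩ :=
    h8cp_c3_exists (p := p) (q := q) (r := r) hpq (Ne.symm hrp) (Ne.symm hrq)
  have hc : ∀ v, (t * π * t⁻¹) v = t (π (t⁻¹ v)) := fun v => rfl
  have key : ∀ v, v ≠ p → v ≠ q → v ≠ r → v ≠ s → (t * π * t⁻¹) v = π v := by
    intro v hvp hvq hvr hvs
    rw [hc]
    have hπp : π v ≠ p := fun h => hvq (π.injective (h.trans eqp.symm))
    have hπq : π v ≠ q := fun h => hvp (π.injective (h.trans epq.symm))
    have hπr : π v ≠ r := fun h => hvs (π.injective (h.trans esr.symm))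
    rw [tio v hvp hvq hvr, tfx (π v) hπp hπq hπr]
  have cp : (t * π * t⁻¹) p = s := by
    rw [hc, tip, ers, tfx s hsp hsq (Ne.symm hrs)]
  refine ⟨t, htA, ?_, p, ?_, ?_⟩
  · intro v hv
    rcases eq_or_ne v p with h0 | h0
    · exfalso; rw [h0, epq, hβp] at hv; exact hsq hv
    rcases eq_or_ne v q with h1 | h1
    · exfalso; rw [h1, eqp] at hv; exact hβq hv
    rcases eq_or_ne v r with h2 | h2
    · exfalso; rw [h2, ers] at hv
      exact hrp (β.injective (hv.trans hβp.symm))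
    rcases eq_or_ne v s with h3 | h3
    · exfalso; rw [h3, esr] at hv; exact hβs hv
    · rw [key v h0 h1 h2 h3]; exact hv
  · rw [cp]; exact hβp
  · rw [hβp, epq]; exact hsq

theorem h8cp_E4a {n : ℕ} (π β : Perm (Fin n)) (p q r s s' : Fin n)
    (epq : π p = q) (eqr : π q = r) (erp : π r = p) (ess : π s = s') (es's : π s' = s)
    (hpq : p ≠ q) (hss : s ≠ s')
    (hβp : β p = r) (hβr : β r ≠ p) : h8cp_T π β := by
  have hqr : q ≠ r := by
    intro h; apply hpq; apply π.injective; rw [epq, eqr]; exact h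
  have hrp : r ≠ p := by
    intro h; apply hqr; apply π.injective; rw [eqr, erp]; exact h
  have two : ∀ x y, π x = y → π y = x → x ≠ p ∧ x ≠ q ∧ x ≠ r := by
    intro x y hxy hyx
    refine ⟨?_, ?_, ?_⟩
    · intro h; rw [h, epq] at hxy; rw [← hxy, eqr, h] at hyx; exact hrp hyx
    · intro h; rw [h, eqr] at hxy; rw [← hxy, erp, h] at hyx; exact hpq hyx
    · intro h; rw [h, erp] at hxy; rw [← hxy, epq, h] at hyx; exact hqr hyx
  obtain ⟨hsp, hsq, hsr⟩ := two s s' ess es's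
  obtain ⟨hs'p, hs'q, hs'r⟩ := two s' s es's ess
  obtain ⟨t, htA, tp, tq, ts, ts', tfx, tip, tiq, tis, tis', tio⟩ :=
    h8cp_d2_exists (p := p) (q := q) (r := s) (s := s') hpq (Ne.symm hsp) (Ne.symm hs'p)
      (Ne.symm hsq) (Ne.symm hs'q) hss
  have hc : ∀ v, (t * π * t⁻¹) v = t (π (t⁻¹ v)) := fun v => rfl
  have key : ∀ v, v ≠ p → v ≠ q → v ≠ r → (t * π * t⁻¹) v = π v := by
    intro v hvp hvq hvr
    rw [hc]
    rcases eq_or_ne v s with hvs | hvs
    · rw [hvs, tis, es's, ts, ess]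
    rcases eq_or_ne v s' with hvs' | hvs'
    · rw [hvs', tis', ess, ts', es's]
    · have hπp : π v ≠ p := fun h => hvr (π.injective (h.trans erp.symm))
      have hπq : π v ≠ q := fun h => hvp (π.injective (h.trans epq.symm))
      have hπs : π v ≠ s := fun h => hvs' (π.injective (h.trans es's.symm))
      have hπs' : π v ≠ s' := fun h => hvs (π.injective (h.trans ess.symm))
      rw [tio v hvp hvq hvs hvs', tfx (π v) hπp hπq hπs hπs']
  have cp : (t * π * t⁻¹) p = r := by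
    rw [hc, tip, eqr, tfx r hrp (Ne.symm hqr) (Ne.symm hsr) (Ne.symm hs'r)]
  refine ⟨t, htA, ?_, p, ?_, ?_⟩
  · intro v hv
    rcases eq_or_ne v p with h0 | h0
    · exfalso; rw [h0, epq, hβp] at hv; exact hqr hv.symm
    rcases eq_or_ne v q with h1 | h1
    · exfalso; rw [h1, eqr] at hv
      exact hpq (β.injective (hv.trans hβp.symm)).symm
    rcases eq_or_ne v r with h2 | h2
    · exfalso; rw [h2, erp] at hv; exact hβr hv
    · rw [key v h0 h1 h2]; exact hv
  · rw [cp]; exact hβp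
  · rw [hβp, epq]; exact Ne.symm hqr

theorem h8cp_E4b {n : ℕ} (π β : Perm (Fin n)) (p q r s s' s'' : Fin n)
    (epq : π p = q) (eqr : π q = r) (erp : π r = p)
    (e1 : π s = s') (e2 : π s' = s'') (e3 : π s'' = s)
    (hpq : p ≠ q) (hsp : s ≠ p) (hsq : s ≠ q) (hsr : s ≠ r) (hss' : s ≠ s')
    (hβq : β q = s'') (hβs : β s'' = r) (hβr : β r ≠ p) : h8cp_T π β := by
  have hqr : q ≠ r := by
    intro h; apply hpq; apply π.injective; rw [epq, eqr]; exact h
  have hrp : r ≠ p := by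
    intro h; apply hqr; apply π.injective; rw [eqr, erp]; exact h
  have hs'p : s' ≠ p := by
    intro h; apply hsr; apply π.injective; rw [e1, erp]; exact h
  have hs'q : s' ≠ q := by
    intro h; apply hsp; apply π.injective; rw [e1, epq]; exact h
  have hs'r : s' ≠ r := by
    intro h; apply hsq; apply π.injective; rw [e1, eqr]; exact h
  have hs''p : s'' ≠ p := by
    intro h; apply hs'r; apply π.injective; rw [e2, erp]; exact h
  have hs''q : s'' ≠ q := by
    intro h; apply hs'p; apply π.injective; rw [e2, epq]; exact h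
  have hs''r : s'' ≠ r := by
    intro h; apply hs'q; apply π.injective; rw [e2, eqr]; exact h
  have hs's'' : s' ≠ s'' := by
    intro h; apply hss'; apply π.injective; rw [e1, e2]; exact h
  have hs''s : s'' ≠ s := by
    intro h; apply hs's''; apply π.injective; rw [e2, e3]; exact h
  obtain ⟨t, htA, tp, ts, tq, ts', tfx, tip, tis, tiq, tis', tio⟩ :=
    h8cp_d2_exists (p := p) (q := s) (r := q) (s := s') (Ne.symm hsp) hpq (Ne.symm hs'p)
      hsq hss' (Ne.symm hs'q)
  have hc : ∀ v, (t * π * t⁻¹) v = t (π (t⁻¹ v)) := fun v => rfl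
  have key : ∀ v, v ≠ q → v ≠ r → v ≠ s' → v ≠ s'' → (t * π * t⁻¹) v = π v := by
    intro v hvq hvr hvs' hvs''
    rw [hc]
    rcases eq_or_ne v p with hvp | hvp
    · rw [hvp, tip, e1, ts', epq]
    rcases eq_or_ne v s with hvs | hvs
    · rw [hvs, tis, epq, tq, e1]
    · have hπp : π v ≠ p := fun h => hvr (π.injective (h.trans erp.symm))
      have hπs : π v ≠ s := fun h => hvs'' (π.injective (h.trans e3.symm))
      have hπq : π v ≠ q := fun h => hvp (π.injective (h.trans epq.symm))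
      have hπs' : π v ≠ s' := fun h => hvs (π.injective (h.trans e1.symm))
      rw [tio v hvp hvs hvq hvs', tfx (π v) hπp hπs hπq hπs']
  have cq : (t * π * t⁻¹) q = s'' := by
    rw [hc, tiq, e2, tfx s'' hs''p hs''s hs''q (Ne.symm hs's'')]
  refine ⟨t, htA, ?_, q, ?_, ?_⟩
  · intro v hv
    rcases eq_or_ne v q with h0 | h0
    · exfalso; rw [h0, eqr, hβq] at hv; exact hs''r hv
    rcases eq_or_ne v r with h1 | h1
    · exfalso; rw [h1, erp] at hv; exact hβr hv
    rcases eq_or_ne v s' with h2 | h2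
    · exfalso; rw [h2, e2] at hv
      exact hs'q (β.injective (hv.trans hβq.symm))
    rcases eq_or_ne v s'' with h3 | h3
    · exfalso; rw [h3, e3, hβs] at hv; exact hsr hv.symm
    · rw [key v h0 h1 h2 h3]; exact hv
  · rw [cq]; exact hβq
  · rw [hβq, eqr]; exact hs''r

end Cfsg.Agent.Lib.helper8
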