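import Cfsg.Agent.Lib.helper8.ClassProd2

set_option autoImplicit false

namespace Cfsg.Agent.Lib.helper8

open Equiv

theorem h8cp_inv_ne {n : ℕ} {ρ : Perm (Fin n)} {u : Fin n} (hu : ρ u ≠ u) : ρ⁻¹ u ≠ u := by
  intro h
  apply hu
  have h1 := congrArg ρ h
  simp at h1
  exact h1.symm

theorem h8cp_GE2 {n : ℕ} (hn : 5 ≤ n) (π ρ : Perm (Fin n)) (x0 : Fin n) (h1 : π x0 ≠ x0)
    (h2 : π (π x0) ≠ x0) (h3 : π (π (π x0)) ≠ x0) (hρ : ρ ≠ 1) : h8cp_G π ρ := by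
  obtain ⟨u0, hu0⟩ := h8cp_exists_moved hρ
  have h31 : π (π (π x0)) ≠ π x0 := fun h => h2 (π.injective h)
  have h21 : π (π x0) ≠ π x0 := fun h => h1 (π.injective h)
  by_cases hw : ρ⁻¹ u0 = ρ u0
  · obtain ⟨k, hk, k0, k1⟩ := h8cp_trans2 hn (x1 := u0) (x2 := ρ u0)
      (y1 := π (π (π x0))) (y2 := π x0) (Ne.symm hu0) h31
    refine ⟨k, hk, h8cp_E2 π _ x0 (π x0) (π (π x0)) (π (π (π x0))) rfl rfl rfl h1 h2 h3 ?_ ?_⟩
    · have h := h8cp_conj_apply k ρ u0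
      rw [k0, k1] at h; exact h
    · intro h
      have h0 : (k * ρ * k⁻¹) (π (π x0)) = k u0 := h.trans k0.symm
      have h' := h8cp_conj_eq k ρ _ _ h0
      rw [hw, k1] at h'
      exact h21 h'
  · have hw0 : ρ⁻¹ u0 ≠ u0 := h8cp_inv_ne hu0
    obtain ⟨k, hk, k0, k1, kw⟩ := h8cp_trans3 hn (x1 := u0) (x2 := ρ u0) (x3 := ρ⁻¹ u0)
      (y1 := π (π (π x0))) (y2 := π x0) (y3 := x0) (Ne.symm hu0) (Ne.symm hw0) (Ne.symm hw)
      h31 h3 h1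
    refine ⟨k, hk, h8cp_E2 π _ x0 (π x0) (π (π x0)) (π (π (π x0))) rfl rfl rfl h1 h2 h3 ?_ ?_⟩
    · have h := h8cp_conj_apply k ρ u0
      rw [k0, k1] at h; exact h
    · intro h
      have h0 : (k * ρ * k⁻¹) (π (π x0)) = k u0 := h.trans k0.symm
      have h' := h8cp_conj_eq k ρ _ _ h0
      rw [kw] at h'
      exact h2 h'

theorem h8cp_GE3 {n : ℕ} (hn : 5 ≤ n) (π ρ : Perm (Fin n)) (p r : Fin n) (hp : π p ≠ p)
    (hpp : π (π p) = p) (hr : π r ≠ r) (hrr : π (π r) = r) (hrp : r ≠ p) (hrq : r ≠ π p)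
    (hρ : ρ ≠ 1) : h8cp_G π ρ := by
  obtain ⟨u0, hu0⟩ := h8cp_exists_moved hρ
  have hps : p ≠ π r := by
    intro h; apply hrq; apply π.injective; rw [hpp]; exact h.symm
  by_cases hA : ρ (ρ u0) = u0
  · have hinv : ρ⁻¹ u0 = ρ u0 := Perm.inv_eq_iff_eq.mpr hA.symm
    obtain ⟨k, hk, k0, k1⟩ := h8cp_trans2 hn (x1 := u0) (x2 := ρ u0) (y1 := p) (y2 := π r)
      (Ne.symm hu0) hps
    refine ⟨k, hk, h8cp_E3 π _ p (π p) r (π r) rfl hpp rfl hrr (Ne.symm hp) hrp hrq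
      (Ne.symm hr) ?_ ?_ ?_⟩
    · have h := h8cp_conj_apply k ρ u0
      rw [k0, k1] at h; exact h
    · intro h
      have h0 : (k * ρ * k⁻¹) (π p) = k u0 := h.trans k0.symm
      have h' := h8cp_conj_eq k ρ _ _ h0
      rw [hinv, k1] at h'
      exact hrp (π.injective h').symm
    · have h := h8cp_conj_apply k ρ (ρ u0)
      rw [k1, hA, k0] at h
      rw [h]; exact Ne.symm hrp
  · have h21 : ρ (ρ u0) ≠ ρ u0 := fun h => hu0 (ρ.injective h)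
    have hw0 : ρ⁻¹ u0 ≠ u0 := h8cp_inv_ne hu0
    have hw1 : ρ⁻¹ u0 ≠ ρ u0 := by
      intro h; apply hA; rw [← h]; simp
    by_cases hB : ρ⁻¹ u0 = ρ (ρ u0)
    · obtain ⟨e, he⟩ := h8cp_exists_not_mem ({p, π p, r, π r} : Finset (Fin n)) (by
        have := Finset.card_le_four (a := p) (b := π p) (c := r) (d := π r); omega)
      simp only [Finset.mem_insert, Finset.mem_singleton, not_or] at he
      obtain ⟨k, hk, k0, k1, k2⟩ := h8cp_trans3 hn (x1 := u0) (x2 := ρ u0) (x3 := ρ (ρ u0))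
        (y1 := p) (y2 := π r) (y3 := e) (Ne.symm hu0) (Ne.symm hA) (Ne.symm h21) hps
        (Ne.symm he.1) (Ne.symm he.2.2.2)
      refine ⟨k, hk, h8cp_E3 π _ p (π p) r (π r) rfl hpp rfl hrr (Ne.symm hp) hrp hrq
        (Ne.symm hr) ?_ ?_ ?_⟩
      · have h := h8cp_conj_apply k ρ u0
        rw [k0, k1] at h; exact h
      · intro h
        have h0 : (k * ρ * k⁻¹) (π p) = k u0 := h.trans k0.symm
        have h' := h8cp_conj_eq k ρ _ _ h0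
        rw [hB, k2] at h'
        exact he.2.1 h'.symm
      · have h := h8cp_conj_apply k ρ (ρ u0)
        rw [k1, k2] at h
        rw [h]; exact he.2.2.1
    · obtain ⟨k, hk, k0, k1, kw⟩ := h8cp_trans3 hn (x1 := u0) (x2 := ρ u0) (x3 := ρ⁻¹ u0)
        (y1 := p) (y2 := π r) (y3 := r) (Ne.symm hu0) (Ne.symm hw0) (Ne.symm hw1) hps
        (Ne.symm hrp) hr
      refine ⟨k, hk, h8cp_E3 π _ p (π p) r (π r) rfl hpp rfl hrr (Ne.symm hp) hrp hrq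
        (Ne.symm hr) ?_ ?_ ?_⟩
      · have h := h8cp_conj_apply k ρ u0
        rw [k0, k1] at h; exact h
      · intro h
        have h0 : (k * ρ * k⁻¹) (π p) = k u0 := h.trans k0.symm
        have h' := h8cp_conj_eq k ρ _ _ h0
        rw [kw] at h'
        exact hrq h'.symm
      · have h := h8cp_conj_apply k ρ (ρ u0)
        rw [k1] at h
        rw [h]
        intro h4
        exact hB (k.injective (kw.trans h4.symm))

theorem h8cp_GE1i {n : ℕ} (hn : 5 ≤ n) (π ρ : Perm (Fin n)) (p q : Fin n) (hp : π p = p)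
    (hq : π q = q) (hpq : p ≠ q) (hπ : π ≠ 1) (uf : Fin n) (huf : ρ uf = uf) (hρ : ρ ≠ 1) :
    h8cp_G π ρ := by
  obtain ⟨r, hr⟩ := h8cp_exists_moved hπ
  obtain ⟨um, hum⟩ := h8cp_exists_moved hρ
  have hrp : r ≠ p := by intro h; rw [h] at hr; exact hr hp
  have hfm : uf ≠ um := by intro h; rw [← h] at hum; exact hum huf
  obtain ⟨k, hk, kf, km⟩ := h8cp_trans2 hn (x1 := uf) (x2 := um) (y1 := r) (y2 := p) hfm hrp
  refine ⟨k, hk, h8cp_E1i π _ p q r (π⁻¹ r) hp hq hpq hr (by simp) ?_ ?_⟩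
  · have h := h8cp_conj_apply k ρ uf
    rw [huf, kf] at h; exact h
  · intro h
    have h0 := h8cp_conj_apply k ρ um
    rw [km, h] at h0
    exact hum (k.injective (h0.symm.trans km.symm))

theorem h8cp_GE1ii {n : ℕ} (hn : 5 ≤ n) (π ρ : Perm (Fin n)) (p q : Fin n) (hp : π p = p)
    (hq : π q = q) (hpq : p ≠ q) (hπ : π ≠ 1) (u0 : Fin n) (hu0 : ρ u0 ≠ u0)
    (hu3 : ρ (ρ (ρ u0)) = u0) : h8cp_G π ρ := by
  obtain ⟨r, hr⟩ := h8cp_exists_moved hπ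
  have hrp : r ≠ p := by intro h; rw [h] at hr; exact hr hp
  have hrq : r ≠ q := by intro h; rw [h] at hr; exact hr hq
  have hrrp : π r ≠ p := fun h => hrp (π.injective (h.trans hp.symm))
  have hrrq : π r ≠ q := fun h => hrq (π.injective (h.trans hq.symm))
  have h20 : ρ (ρ u0) ≠ u0 := by intro h; rw [h] at hu3; exact hu0 hu3
  have h21 : ρ (ρ u0) ≠ ρ u0 := fun h => hu0 (ρ.injective h)
  have ew : π (π⁻¹ r) = r := by simp
  have hwp : π⁻¹ r ≠ p := by intro h; rw [h, hp] at ew; exact hrp ew.symm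
  by_cases hc : π⁻¹ r = π r
  · obtain ⟨k, hk, k0, k1, k2⟩ := h8cp_trans3 hn (x1 := u0) (x2 := ρ u0) (x3 := ρ (ρ u0))
      (y1 := p) (y2 := π r) (y3 := q) (Ne.symm hu0) (Ne.symm h20) (Ne.symm h21)
      (Ne.symm hrrp) hpq hrrq
    refine ⟨k, hk, h8cp_E1ii π _ p q r (π⁻¹ r) hp hq hpq hr ew ?_ ?_⟩
    · have h := h8cp_conj_apply k ρ u0
      rw [k0, k1] at h; exact h
    · rw [hc]
      have h := h8cp_conj_apply k ρ (ρ u0)
      rw [k1, k2] at h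
      rw [h]; exact Ne.symm hrq
  · obtain ⟨k, hk, k0, k1, k2⟩ := h8cp_trans3 hn (x1 := u0) (x2 := ρ u0) (x3 := ρ (ρ u0))
      (y1 := p) (y2 := π r) (y3 := π⁻¹ r) (Ne.symm hu0) (Ne.symm h20) (Ne.symm h21)
      (Ne.symm hrrp) (Ne.symm hwp) (Ne.symm hc)
    refine ⟨k, hk, h8cp_E1ii π _ p q r (π⁻¹ r) hp hq hpq hr ew ?_ ?_⟩
    · have h := h8cp_conj_apply k ρ u0
      rw [k0, k1] at h; exact h
    · have h := h8cp_conj_apply k ρ (ρ (ρ u0))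
      rw [k2, hu3, k0] at h
      rw [h]; exact Ne.symm hrp

theorem h8cp_GE4a {n : ℕ} (hn : 5 ≤ n) (π ρ : Perm (Fin n)) (p s : Fin n) (hp : π p ≠ p)
    (hp3 : π (π (π p)) = p) (hs : π s ≠ s) (hs2 : π (π s) = s) (u0 : Fin n) (hu0 : ρ u0 ≠ u0)
    (hu2 : ρ (ρ u0) ≠ u0) : h8cp_G π ρ := by
  have hrp : π (π p) ≠ p := by intro h; rw [h] at hp3; exact hp hp3
  obtain ⟨k, hk, k0, k1⟩ := h8cp_trans2 hn (x1 := u0) (x2 := ρ u0) (y1 := p) (y2 := π (π p))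
    (Ne.symm hu0) (Ne.symm hrp)
  refine ⟨k, hk, h8cp_E4a π _ p (π p) (π (π p)) s (π s) rfl rfl hp3 rfl hs2 (Ne.symm hp)
    (Ne.symm hs) ?_ ?_⟩
  · have h := h8cp_conj_apply k ρ u0
    rw [k0, k1] at h; exact h
  · have h := h8cp_conj_apply k ρ (ρ u0)
    rw [k1] at h
    rw [h]
    intro h4
    exact hu2 (k.injective (h4.trans k0.symm))

theorem h8cp_GE4b {n : ℕ} (hn : 5 ≤ n) (π ρ : Perm (Fin n)) (p s : Fin n) (hp : π p ≠ p)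
    (hp3 : π (π (π p)) = p) (hs : π s ≠ s) (hs3 : π (π (π s)) = s) (hsp : s ≠ p)
    (hsq : s ≠ π p) (hsr : s ≠ π (π p)) (u0 : Fin n) (hu0 : ρ u0 ≠ u0)
    (hu3 : ρ (ρ (ρ u0)) = u0) : h8cp_G π ρ := by
  have h20 : ρ (ρ u0) ≠ u0 := by intro h; rw [h] at hu3; exact hu0 hu3
  have h21 : ρ (ρ u0) ≠ ρ u0 := fun h => hu0 (ρ.injective h)
  have hqr : π p ≠ π (π p) := fun h => hp (π.injective h).symm
  have hq's : π p ≠ π (π s) := by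
    intro h
    have h1 : p = π s := π.injective h
    apply hsr; apply π.injective; rw [hp3]; exact h1.symm
  have hs''r : π (π s) ≠ π (π p) := fun h => hsp (π.injective (π.injective h))
  obtain ⟨k, hk, k0, k1, k2⟩ := h8cp_trans3 hn (x1 := u0) (x2 := ρ u0) (x3 := ρ (ρ u0))
    (y1 := π p) (y2 := π (π s)) (y3 := π (π p)) (Ne.symm hu0) (Ne.symm h20) (Ne.symm h21)
    hq's hqr hs''r
  refine ⟨k, hk, h8cp_E4b π _ p (π p) (π (π p)) s (π s) (π (π s)) rfl rfl hp3 rfl rfl hs3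
    (Ne.symm hp) hsp hsq hsr (Ne.symm hs) ?_ ?_ ?_⟩
  · have h := h8cp_conj_apply k ρ u0
    rw [k0, k1] at h; exact h
  · have h := h8cp_conj_apply k ρ (ρ u0)
    rw [k1, k2] at h; exact h
  · have h := h8cp_conj_apply k ρ (ρ (ρ u0))
    rw [k2, hu3, k0] at h
    rw [h]; exact hp

theorem h8cp_classify {n : ℕ} (hn : 5 ≤ n) (π : Perm (Fin n)) (hπ : π ≠ 1) :
    (∃ p q, p ≠ q ∧ π p = p ∧ π q = q) ∨
    (∃ x, π x ≠ x ∧ π (π x) ≠ x ∧ π (π (π x)) ≠ x) ∨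
    (∃ p r, π p ≠ p ∧ π (π p) = p ∧ π r ≠ r ∧ π (π r) = r ∧ r ≠ p ∧ r ≠ π p) ∨
    (∃ p s, π p ≠ p ∧ π (π (π p)) = p ∧ π s ≠ s ∧
      (π (π s) = s ∨ (π (π (π s)) = s ∧ s ≠ p ∧ s ≠ π p ∧ s ≠ π (π p)))) := by
  by_cases hL : ∃ x, π x ≠ x ∧ π (π x) ≠ x ∧ π (π (π x)) ≠ x
  · exact Or.inr (Or.inl hL)
  by_cases hF : ∃ p q, p ≠ q ∧ π p = p ∧ π q = q
  · exact Or.inl hF
  have hL' : ∀ x, π x ≠ x → π (π x) ≠ x → π (π (π x)) = x := by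
    intro x h1 h2; by_contra h3; exact hL ⟨x, h1, h2, h3⟩
  have hF' : ∀ p q, π p = p → π q = q → p = q := by
    intro p q h1 h2; by_contra h3; exact hF ⟨p, q, h3, h1, h2⟩
  have hout : ∀ S : Finset (Fin n), S.card ≤ 3 → ∃ s, s ∉ S ∧ π s ≠ s := by
    intro S hS
    obtain ⟨e1, he1⟩ := h8cp_exists_not_mem S (by omega)
    by_cases h1 : π e1 = e1
    · obtain ⟨e2, he2⟩ := h8cp_exists_not_mem (insert e1 S) (by
        have := Finset.card_insert_le e1 S; omega)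
      rw [Finset.mem_insert, not_or] at he2
      exact ⟨e2, he2.2, fun h2 => he2.1 (hF' e2 e1 h2 h1)⟩
    · exact ⟨e1, he1, h1⟩
  right; right
  by_cases h3 : ∃ p, π p ≠ p ∧ π (π p) ≠ p
  · obtain ⟨p, hp1, hp2⟩ := h3
    have hp3 := hL' p hp1 hp2
    obtain ⟨s, hsS, hs⟩ := hout {p, π p, π (π p)} Finset.card_le_three
    simp only [Finset.mem_insert, Finset.mem_singleton, not_or] at hsS
    right
    by_cases hs2 : π (π s) = s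
    · exact ⟨p, s, hp1, hp3, hs, Or.inl hs2⟩
    · exact ⟨p, s, hp1, hp3, hs, Or.inr ⟨hL' s hs hs2, hsS.1, hsS.2.1, hsS.2.2⟩⟩
  · have h3' : ∀ p, π p ≠ p → π (π p) = p := by
      intro p hp; by_contra h; exact h3 ⟨p, hp, h⟩
    obtain ⟨p, hp⟩ := h8cp_exists_moved hπ
    obtain ⟨r, hrS, hr⟩ := hout {p, π p} (by
      have := Finset.card_le_two (a := p) (b := π p); omega)
    simp only [Finset.mem_insert, Finset.mem_singleton, not_or] at hrS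
    left
    exact ⟨p, r, hp, h3' p hp, hr, h3' r hr, hrS.1, hrS.2⟩

theorem h8cp_main {n : ℕ} (hn : 5 ≤ n) (π ρ : Perm (Fin n)) (hπ : π ≠ 1) (hρ : ρ ≠ 1) :
    h8cp_G π ρ ∨ h8cp_G ρ π := by
  rcases h8cp_classify hn π hπ with ⟨p, q, hpq, hp, hq⟩ | ⟨x, h1, h2, h3⟩ |
    ⟨p, r, a1, a2, a3, a4, a5, a6⟩ | ⟨p, s, b1, b2, b3, b4⟩
  · rcases h8cp_classify hn ρ hρ with ⟨p', q', hpq', hp', hq'⟩ | ⟨x, h1, h2, h3⟩ |
      ⟨p', r', a1, a2, a3, a4, a5, a6⟩ | ⟨p', s', c1, c2, c3, c4⟩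
    · exact Or.inl (h8cp_GE1i hn π ρ p q hp hq hpq hπ p' hp' hρ)
    · exact Or.inr (h8cp_GE2 hn ρ π x h1 h2 h3 hπ)
    · exact Or.inr (h8cp_GE3 hn ρ π p' r' a1 a2 a3 a4 a5 a6 hπ)
    · exact Or.inl (h8cp_GE1ii hn π ρ p q hp hq hpq hπ p' c1 c2)
  · exact Or.inl (h8cp_GE2 hn π ρ x h1 h2 h3 hρ)
  · exact Or.inl (h8cp_GE3 hn π ρ p r a1 a2 a3 a4 a5 a6 hρ)
  · rcases h8cp_classify hn ρ hρ with ⟨p', q', hpq', hp', hq'⟩ | ⟨x, h1, h2, h3⟩ |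
      ⟨p', r', a1, a2, a3, a4, a5, a6⟩ | ⟨p', s', c1, c2, c3, c4⟩
    · exact Or.inr (h8cp_GE1ii hn ρ π p' q' hp' hq' hpq' hρ p b1 b2)
    · exact Or.inr (h8cp_GE2 hn ρ π x h1 h2 h3 hπ)
    · exact Or.inr (h8cp_GE3 hn ρ π p' r' a1 a2 a3 a4 a5 a6 hπ)
    · have hc2 : ρ (ρ p') ≠ p' := by intro h; rw [h] at c2; exact c1 c2
      rcases b4 with b4 | ⟨b4, b5, b6, b7⟩
      · exact Or.inl (h8cp_GE4a hn π ρ p s b1 b2 b3 b4 p' c1 hc2)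
      · exact Or.inl (h8cp_GE4b hn π ρ p s b1 b2 b3 b4 b5 b6 b7 p' c1 c2)

theorem h8cp_main' {n : ℕ} (hn : 5 ≤ n) (π ρ : Perm (Fin n)) (hπ : π ≠ 1) (hρ : ρ ≠ 1) :
    (∃ k : Perm (Fin n), k ∈ alternatingGroup (Fin n) ∧ ∃ t : Perm (Fin n),
      t ∈ alternatingGroup (Fin n) ∧
      (∀ v, (k * ρ * k⁻¹) v = π v → (k * ρ * k⁻¹) v = (t * π * t⁻¹) v) ∧
      ∃ v, (k * ρ * k⁻¹) v = (t * π * t⁻¹) v ∧ (k * ρ * k⁻¹) v ≠ π v) ∨
    (∃ k : Perm (Fin n), k ∈ alternatingGroup (Fin n) ∧ ∃ t : Perm (Fin n),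
      t ∈ alternatingGroup (Fin n) ∧
      (∀ v, (k * π * k⁻¹) v = ρ v → (k * π * k⁻¹) v = (t * ρ * t⁻¹) v) ∧
      ∃ v, (k * π * k⁻¹) v = (t * ρ * t⁻¹) v ∧ (k * π * k⁻¹) v ≠ ρ v) :=
  h8cp_main hn π ρ hπ hρ

end Cfsg.Agent.Lib.helper8
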