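import Mathlib
import Cfsg.Agent.S0100
import Cfsg.Agent.S0519
import Cfsg.Agent.S0016
import Cfsg.Agent.S3872
import Cfsg.Agent.Lib.helper1.NormAb
import Cfsg.Agent.Lib.helper25.K4157b0
import Cfsg.Agent.Lib.helper26.K4157c

set_option autoImplicit false

namespace Cfsg.Agent.Lib.helper8.K4157a

universe u

theorem exists_normal_four_aux {G : Type u} [Group G] [Finite G] (m : ℕ)
    (hG : Nat.card G = 2 ^ m) (hnc : ¬ IsCyclic G) (h2 : Group.nilpotencyClass G ≠ m - 1)
    (hW : ((∃ n : ℕ, Nonempty (G ≃* QuaternionGroup n)) ∨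
      (∃ n : ℕ, 8 ≤ n ∧ Nonempty (G ≃* DihedralGroup n)) ∨ Cfsg.IsQuasiDihedral G) →
      Group.nilpotencyClass G = m - 1) :
    ∃ E : Subgroup G, E.Normal ∧ Nat.card E = 4 ∧ ¬ IsCyclic E := by
  by_contra hno
  have hno' : ∀ E : Subgroup G, E.Normal → Nat.card E = 4 → IsCyclic E := by
    intro E hEn hE4
    by_contra hc
    exact hno ⟨E, hEn, hE4, hc⟩
  have : Fact (Nat.Prime 2) := ⟨Nat.prime_two⟩
  have hP : IsPGroup 2 G := IsPGroup.of_card hG
  have X1 : ∀ A : Subgroup G, A.Normal → IsMulCommutative A → IsCyclic A := by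
    intro A hAn hAc
    by_contra hAnc
    have hcomm : ∀ a ∈ A, ∀ b ∈ A, a * b = b * a := by
      intro a ha b hb
      have h := hAc.is_comm.comm (⟨a, ha⟩ : A) ⟨b, hb⟩
      exact congrArg Subtype.val h
    let Ω : Subgroup G :=
      { carrier := {a | a ∈ A ∧ a ^ 2 = 1}
        mul_mem' := by
          rintro a b ⟨ha, ha2⟩ ⟨hb, hb2⟩
          refine ⟨A.mul_mem ha hb, ?_⟩
          have hc : Commute a b := hcomm a ha b hb
          rw [hc.mul_pow, ha2, hb2, one_mul]
        one_mem' := ⟨A.one_mem, one_pow 2⟩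
        inv_mem' := by
          rintro a ⟨ha, ha2⟩
          exact ⟨A.inv_mem ha, by rw [inv_pow, ha2, inv_one]⟩ }
    have hΩmem : ∀ a : G, a ∈ Ω ↔ a ∈ A ∧ a ^ 2 = 1 := fun a => Iff.rfl
    have hΩn : Ω.Normal := by
      refine ⟨fun a ha g => ?_⟩
      obtain ⟨haA, ha2⟩ := (hΩmem a).mp ha
      refine (hΩmem _).mpr ⟨hAn.conj_mem a haA g, ?_⟩
      rw [conj_pow, ha2, mul_one, mul_inv_cancel]
    have hΩle : Ω ≤ A := fun a ha => ((hΩmem a).mp ha).1
    obtain ⟨k, hk⟩ := IsPGroup.iff_card.mp (hP.to_subgroup Ω)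
    have hk2 : 2 ≤ k := by
      by_contra hlt
      apply hAnc
      have hex : ∃ g0 : G, g0 ∈ Ω ∧ ∀ a ∈ Ω, a ∈ Subgroup.zpowers g0 := by
        have hk01 : k = 0 ∨ k = 1 := by omega
        rcases hk01 with h0 | h1
        · refine ⟨1, Ω.one_mem, fun a ha => ?_⟩
          have hbot : Ω = ⊥ := Subgroup.eq_bot_of_card_eq _ (by rw [hk, h0, pow_zero])
          rw [hbot, Subgroup.mem_bot] at ha
          rw [ha]; exact Subgroup.one_mem _
        · have hne : Ω ≠ ⊥ := by
            intro hbot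
            rw [hbot, Subgroup.card_bot, h1] at hk
            norm_num at hk
          obtain ⟨⟨g0, hg0⟩, hg01⟩ := (Subgroup.ne_bot_iff_exists_ne_one).mp hne
          have hg01' : g0 ≠ 1 := fun h => hg01 (Subtype.ext h)
          have ho : orderOf g0 = 2 := orderOf_eq_prime ((hΩmem g0).mp hg0).2 hg01'
          have hle : Subgroup.zpowers g0 ≤ Ω := by rw [Subgroup.zpowers_le]; exact hg0
          have heq : Subgroup.zpowers g0 = Ω :=
            Subgroup.eq_of_le_of_card_ge hle (by rw [hk, h1, Nat.card_zpowers, ho]; norm_num)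
          exact ⟨g0, hg0, fun a ha => by rw [heq]; exact ha⟩
      obtain ⟨g0, hg0, hall⟩ := hex
      refine Cfsg.Agent.S3872.cyclic_of_omega (Z := A) (p := 2) (fun a b => ?_)
        (hP.to_subgroup A) ⟨g0, hΩle hg0⟩ ?_ ?_
      · exact Subtype.ext (hcomm a a.2 b b.2)
      · exact Subtype.ext ((hΩmem g0).mp hg0).2
      · intro a ha
        have ha' : (a : G) ∈ Ω := (hΩmem _).mpr ⟨a.2, congrArg Subtype.val ha⟩
        obtain ⟨j, hj⟩ := Subgroup.mem_zpowers_iff.mp (hall _ ha')
        exact Subgroup.mem_zpowers_iff.mpr ⟨j, Subtype.ext hj⟩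
    obtain ⟨E, hEΩ, hEn, hEcard⟩ :=
      Cfsg.Agent.S0100.exists_normal_le_card hP 2 (k - 2) Ω hΩn
        (by rw [hk]; congr 1; omega)
    have hE4 : Nat.card E = 4 := by rw [hEcard]; norm_num
    have hEcyc := hno' E hEn hE4
    obtain ⟨g, hg⟩ := hEcyc.exists_generator
    have ho : orderOf g = 4 := by
      rw [orderOf_eq_card_of_forall_mem_zpowers hg, hE4]
    have hg2 : g ^ 2 = 1 := Subtype.ext ((hΩmem _).mp (hEΩ g.2)).2
    have hdvd := orderOf_dvd_of_pow_eq_one hg2
    rw [ho] at hdvd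
    norm_num at hdvd
  by_cases hm : ∃ B : Subgroup G, IsMulCommutative B ∧ ¬ IsCyclic B
  · have h := (Cfsg.Agent.S0519.result 2 hP X1 hm).2
    exact h2 (hW h)
  · have hm' : ∀ B : Subgroup G, IsMulCommutative B → IsCyclic B := by
      intro B hB
      by_contra hc
      exact hm ⟨B, hB, hc⟩
    have : Nontrivial G := by
      by_contra hnt
      rw [not_nontrivial_iff_subsingleton] at hnt
      exact hnc isCyclic_of_subsingleton
    have : Nontrivial (Subgroup.center G) := hP.center_nontrivial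
    have hcdvd : 2 ∣ Nat.card (Subgroup.center G) := by
      obtain ⟨j, hj0, hj⟩ :=
        ((hP.to_subgroup (Subgroup.center G)).nontrivial_iff_card).mp inferInstance
      rw [hj]
      exact dvd_pow_self 2 hj0.ne'
    obtain ⟨z, hz⟩ := exists_prime_orderOf_dvd_card' 2 hcdvd
    have hzo : orderOf (z : G) = 2 := by rw [Subgroup.orderOf_coe]; exact hz
    have hzc : ∀ g : G, g * (z : G) = (z : G) * g := fun g =>
      Subgroup.mem_center_iff.mp z.2 g
    have key : ∀ H : Subgroup G, Nat.card H = 2 → H = Subgroup.zpowers (z : G) := by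
      intro H hH
      have hne : H ≠ ⊥ := by
        intro hbot
        rw [hbot, Subgroup.card_bot] at hH
        norm_num at hH
      obtain ⟨⟨t, ht⟩, ht1⟩ := (Subgroup.ne_bot_iff_exists_ne_one).mp hne
      have ht1' : t ≠ 1 := fun h => ht1 (Subtype.ext h)
      have ht2 : t ^ 2 = 1 := by
        have h1 : (⟨t, ht⟩ : H) ^ Nat.card H = 1 := pow_card_eq_one'
        rw [hH] at h1
        exact congrArg Subtype.val h1
      have hto : orderOf t = 2 := orderOf_eq_prime ht2 ht1'
      have hHt : Subgroup.zpowers t = H :=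
        Subgroup.eq_of_le_of_card_ge (by rw [Subgroup.zpowers_le]; exact ht)
          (by rw [hH, Nat.card_zpowers, hto])
      have htz : t ∈ Subgroup.zpowers (z : G) := by
        by_contra hnot
        have hnc' := Cfsg.Agent.Lib.helper1.sup_zpowers_not_cyclic t (z : G) 2 hto hzo hnot
        have hcm := Cfsg.Agent.Lib.helper1.sup_zpowers_comm t (z : G) (hzc t)
        exact hnc' (hm' _ ⟨⟨fun y w => Subtype.ext (hcm y y.2 w w.2)⟩⟩)
      rw [← hHt]
      exact Subgroup.eq_of_le_of_card_ge (by rw [Subgroup.zpowers_le]; exact htz)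
        (by rw [Nat.card_zpowers, Nat.card_zpowers, hto, hzo])
    have huniq : ∀ H K : Subgroup G, Nat.card H = 2 → Nat.card K = 2 → H = K := by
      intro H K hH hK
      rw [key H hH, key K hK]
    rcases Cfsg.Agent.S0016.result 2 hP huniq with hc | ⟨_, n, hn⟩
    · exact hnc hc
    · exact h2 (hW (Or.inl ⟨2 ^ n, hn⟩))

theorem exists_normal_four {G : Type*} [Group G] [Finite G] (m : ℕ) (hG : Nat.card G = 2 ^ m)
    (hnc : ¬ IsCyclic G) (h2 : Group.nilpotencyClass G ≠ m - 1) :
    ∃ E : Subgroup G, E.Normal ∧ Nat.card E = 4 ∧ ¬ IsCyclic E :=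
  exists_normal_four_aux m hG hnc h2 (fun h =>
    Cfsg.Agent.Lib.helper25.K4157b0.class_of_QDS_of
      (fun n hn hX a b ha hb hrel =>
        Cfsg.Agent.Lib.helper26.K4157c.class_of_rel n hn hX a b ha hb hrel) m hG hnc h)

end Cfsg.Agent.Lib.helper8.K4157a
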